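import Groth.Agent.LogNCD.K922.DSec

/-!
# Charts of a log module

`Chart Λ U`: on the affine open `U` the components of the divisor are principal with regular equations `g i`, the
log module has a basis `ω` (in the sense of `IsLocBasis`) consisting of the logarithmic differentials of the
equations of the components meeting `U` and of exact forms.
-/

set_option autoImplicit false

universe u

open CategoryTheory CategoryTheory.Limits AlgebraicGeometry Opposite TopologicalSpace
open Groth.Agent.Sga67.Sec Groth.Agent.Sga67.LocBasis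

namespace K913.Chart

open K922.DSec

variable {X S : Scheme.{u}} {f : X ⟶ S} {Ω' : X.Modules} {d : OmegaSh.Der f Ω'} {r : ℕ}
  {D : Fin r → X.IdealSheafData}

/-- A chart of the log module on the affine open `U`. -/
structure Ch (Λ : LogNCD.LogMod d D) (U : X.affineOpens) where
  /-- the rank -/
  n : ℕ
  /-- the equations of the components -/
  g : Fin r → Γ(X, U.1)
  ideal_eq : ∀ i, (D i).ideal U = Ideal.span {g i}
  g_mem : ∀ i, g i ∈ nonZeroDivisors Γ(X, U.1)
  /-- the basis -/
  ω : Fin n → Sec Λ.L U.1
  isLocBasis : IsLocBasis ω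
  /-- the pole direction of the component `i`; `none` if the component misses `U` -/
  e : Fin r → Option (Fin n)
  e_inj : ∀ i j k, e i = some k → e j = some k → i = j
  none_one : ∀ i, e i = none → g i = 1
  ω_some : ∀ i k, e i = some k → g i • ω k = dS (LogNCD.der Λ) U.1 (g i)
  res_self : ∀ i k, e i = some k → appS (Λ.res i) U.1 (ω k) = LogNCD.oneOn (D i) U.1
  res_ne : ∀ i k, e i ≠ some k → appS (Λ.res i) U.1 (ω k) = 0
  ω_other : ∀ k, (∀ i, e i ≠ some k) → ∃ v, ω k = dS (LogNCD.der Λ) U.1 v

/-- There are arbitrarily small charts around every point. -/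
def HasCharts (Λ : LogNCD.LogMod d D) : Prop :=
  ∀ (x : X) (O : X.Opens), x ∈ O → ∃ U : X.affineOpens, x ∈ U.1 ∧ U.1 ≤ O ∧ Nonempty (Ch Λ U)

end K913.Chart
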