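import Groth.Agent.LogNCD.K913.CxStr

/-!
# The terms of a de Rham complex are locally free
-/

set_option autoImplicit false

universe u w

open CategoryTheory CategoryTheory.Limits AlgebraicGeometry Opposite TopologicalSpace
open scoped TensorProduct
open Groth.Agent.Sga67.Sec Groth.Agent.Sga67.LocBasis

namespace K913.TermLoc

open K913.Contr K913.LogDG K913.CxLoc K913.CxStr K922.DSec

section general

variable {X : Scheme.{u}}

theorem res_injective {M : X.Modules} {U V : X.Opens} (h : V ≤ U) {κ : Type*} [Fintype κ] {b : κ → Sec M U}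
    (hb : IsLocBasis b) (hO : Function.Injective (resO X h)) : Function.Injective (res M h) := by
  rw [injective_iff_map_eq_zero]
  intro s hs
  obtain ⟨a, rfl⟩ := (hb U le_rfl).2 s
  rw [res_comb] at hs
  have h1 : (fun i => resO X h (a i)) = 0 := (hb V h).1 (hs.trans (map_zero _).symm)
  have h2 : a = 0 := by
    funext i
    apply hO
    rw [Pi.zero_apply, map_zero]
    exact congrFun h1 i
  rw [h2, map_zero]

theorem smul_eq_zero_imp {M : X.Modules} {U : X.Opens} {κ : Type*} [Fintype κ] {b : κ → Sec M U}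
    (hb : IsLocBasis b) (g : Γ(X, U)) (hg : g ∈ nonZeroDivisors Γ(X, U)) (s : Sec M U) (hs : g • s = 0) :
    s = 0 := by
  obtain ⟨a, rfl⟩ := (hb U le_rfl).2 s
  rw [← map_smul] at hs
  have h1 : g • a = 0 := (hb U le_rfl).1 (hs.trans (map_zero _).symm)
  have h2 : a = 0 := by
    funext i
    have := congrFun h1 i
    rw [Pi.smul_apply, Pi.zero_apply, smul_eq_mul, mul_comm] at this
    exact (mem_nonZeroDivisors_iff_right.1 hg) _ this
  rw [h2, map_zero]

theorem resO_basicOpen_injective (U : X.affineOpens) (g : Γ(X, U.1)) (hg : g ∈ nonZeroDivisors Γ(X, U.1)) :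
    Function.Injective (resO X (X.basicOpen_le g)) := by
  have := U.2.isLocalization_basicOpen g
  exact IsLocalization.injective (M := Submonoid.powers g) Γ(X, X.basicOpen g)
    (Submonoid.powers_le.2 hg)

end general

variable {X S : Scheme.{u}} {f : X ⟶ S} {L : X.Modules} {δ : OmegaSh.Der f L} {E : X.Modules}
  {nabla : Coh.toAb E ⟶ Coh.toAb (CohB1.tensorMod E L)} (K : ConnSh.Cx δ E nabla)

theorem isLocBasis_term (p : ℕ) {U : X.affineOpens} {κ : Type*} [Fintype κ] {b : κ → Sec E U.1}
    (hb : IsLocBasis b) {κ' : Type*} [Fintype κ'] [LinearOrder κ'] {ω : κ' → Sec L U.1} (hω : IsLocBasis ω) :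
    IsLocBasis (M := K.term p) (fun q : κ × Set.powersetCard κ' p =>
      (lo K p U).symm (b q.1 ⊗ₜ[Γ(X, U.1)] exteriorPower.ιMulti_family Γ(X, U.1) p ω q.2)) := by
  apply isLocBasis_of_locally
  intro x V hV hx
  obtain ⟨_, ⟨W, rfl⟩, hxW, hW⟩ := Opens.isBasis_iff_nbhd.mp (affineBasis X) hx
  refine ⟨W.1, hW.trans hV, hW, hxW, ?_⟩
  have h1 : (comb (M := K.term p) (fun q : κ × Set.powersetCard κ' p =>
      (lo K p U).symm (b q.1 ⊗ₜ[Γ(X, U.1)] exteriorPower.ιMulti_family Γ(X, U.1) p ω q.2)) (hW.trans hV) :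
        (κ × Set.powersetCard κ' p → Γ(X, W.1)) → Sec (K.term p) W.1) =
      (lo K p W).symm ∘ (((hb.basis (hW.trans hV)).tensorProduct
        ((hω.basis (hW.trans hV)).exteriorPower p)).equivFun.symm) := by
    funext a
    rw [comb_apply, Function.comp_apply, Module.Basis.equivFun_symm_apply, map_sum]
    refine Finset.sum_congr rfl fun q _ => ?_
    rw [map_smul]
    congr 1
    rw [Module.Basis.tensorProduct_apply', IsLocBasis.basis_apply, exteriorPower.basis_apply,
      exteriorPower.ιMulti_family, exteriorPower.ιMulti_family]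
    have h2 := rP_tmul K p (V := W) (hW.trans hV) (b q.1) (ω ∘ (Set.powersetCard.ofFinEmbEquiv.symm q.2))
    rw [rP_apply] at h2
    have h3 := congrArg (lo K p W).symm h2
    rw [LinearEquiv.symm_apply_apply] at h3
    refine h3.trans ?_
    congr 3
    funext j
    exact (IsLocBasis.basis_apply hω (hW.trans hV) _).symm
  rw [h1]
  exact (lo K p W).symm.bijective.comp (LinearEquiv.bijective _)

theorem rP_injective (p : ℕ) {U V : X.affineOpens} (h : V.1 ≤ U.1) {κ : Type*} [Fintype κ] {b : κ → Sec E U.1}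
    (hb : IsLocBasis b) {κ' : Type*} [Fintype κ'] [LinearOrder κ'] {ω : κ' → Sec L U.1} (hω : IsLocBasis ω)
    (hO : Function.Injective (resO X h)) : Function.Injective (rP K p h) := by
  have h1 := res_injective (M := K.term p) h (isLocBasis_term K p hb hω) hO
  intro x y hxy
  rw [rP_apply, rP_apply] at hxy
  exact (lo K p U).symm.injective (h1 ((lo K p V).injective hxy))

theorem PU_smul_eq_zero (p : ℕ) {U : X.affineOpens} {κ : Type*} [Fintype κ] {b : κ → Sec E U.1}
    (hb : IsLocBasis b) {κ' : Type*} [Fintype κ'] [LinearOrder κ'] {ω : κ' → Sec L U.1} (hω : IsLocBasis ω)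
    (g : Γ(X, U.1)) (hg : g ∈ nonZeroDivisors Γ(X, U.1)) (x : PU E L p U) (hx : g • x = 0) : x = 0 := by
  let B := (hb.basis le_rfl).tensorProduct ((hω.basis le_rfl).exteriorPower p)
  apply B.repr.injective
  ext i
  have h1 := congrArg (fun y => B.repr y i) hx
  simp only [map_smul, Finsupp.smul_apply, smul_eq_mul, map_zero, Finsupp.coe_zero, Pi.zero_apply] at h1
  rw [mul_comm] at h1
  rw [map_zero]
  exact (mem_nonZeroDivisors_iff_right.1 hg) _ h1

end K913.TermLoc
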