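import Groth.Agent.LogNCD.K913.LogDG

/-!
# Acyclicity of `(M ⊗ ⋀^• N) / g^ν` for a module with logarithmic differential
-/

set_option autoImplicit false

open TensorProduct

universe u w

namespace K913.LogDG.Str

open K913.Contr

variable {B N M : Type u} [CommRing B] [AddCommGroup N] [Module B N]
    [AddCommGroup M] [Module B M] {δ : B → N} {κ : Type w} {ω : κ → N}

/-- Acyclicity of the complex modulo `t`. -/
def AcycMod (L : Str M δ ω) (t : B) : Prop :=
  (∀ (x : M ⊗[B] ↥(⋀[B]^0 N)) (w : M ⊗[B] ↥(⋀[B]^1 N)), L.D 0 x = t • w → ∃ z, x = t • z) ∧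
  ∀ (q : ℕ) (x : M ⊗[B] ↥(⋀[B]^(q + 1) N)) (w : M ⊗[B] ↥(⋀[B]^(q + 2) N)),
    L.D (q + 1) x = t • w → ∃ (y : M ⊗[B] ↥(⋀[B]^q N)) (z : M ⊗[B] ↥(⋀[B]^(q + 1) N)),
      x = L.D q y + t • z

variable (L : Str M δ ω)

theorem acycMod_of_isUnit (t : B) (ht : IsUnit t) : L.AcycMod t := by
  obtain ⟨t, rfl⟩ := ht
  refine ⟨fun x w _ => ⟨(↑t⁻¹ : B) • x, ?_⟩, fun q x w _ => ⟨0, (↑t⁻¹ : B) • x, ?_⟩⟩
  · rw [smul_smul, Units.mul_inv, one_smul]
  · rw [smul_smul, Units.mul_inv, one_smul, map_zero, zero_add]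

theorem acycMod_one : L.AcycMod 1 := L.acycMod_of_isUnit 1 isUnit_one

theorem acycMod_mul (u t : B) (α : N) (hu : δ u = u • α)
    (hreg : ∀ p (x : M ⊗[B] ↥(⋀[B]^p N)), u • x = 0 → x = 0)
    (h1 : L.AcycMod u) (h2 : (L.twist u α hu hreg).AcycMod t) : L.AcycMod (u * t) := by
  refine ⟨fun x w hx => ?_, fun q x w hx => ?_⟩
  · obtain ⟨z, rfl⟩ := h1.1 x (t • w) (by rw [hx, mul_smul])
    have h3 : (L.twist u α hu hreg).D 0 z = t • w := by
      rw [← sub_eq_zero]
      apply hreg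
      rw [smul_sub, smul_twist_D, hx, mul_smul, sub_self]
    obtain ⟨z', rfl⟩ := h2.1 z w h3
    exact ⟨z', by rw [mul_smul]⟩
  · obtain ⟨y, z, rfl⟩ := h1.2 q x (t • w) (by rw [hx, mul_smul])
    have h3 : (L.twist u α hu hreg).D (q + 1) z = t • w := by
      rw [← sub_eq_zero]
      apply hreg
      rw [map_add, L.DD, zero_add] at hx
      rw [smul_sub, smul_twist_D, hx, mul_smul, sub_self]
    obtain ⟨y', z', rfl⟩ := h2.2 q z w h3
    refine ⟨y + u • y', z', ?_⟩
    rw [map_add, smul_add, smul_twist_D, mul_smul, add_assoc]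

section chain

variable {r : ℕ} (g : Fin r → B) (dl : Fin r → N)

theorem delta_prod (hδ : ∀ a b, δ (a * b) = a • δ b + b • δ a) (hg : ∀ i, δ (g i) = g i • dl i)
    (μ : Fin r → ℕ) : δ (∏ i, g i ^ μ i) = (∏ i, g i ^ μ i) • ∑ i, μ i • dl i := by
  have h1 : δ 1 = 0 := by
    have := hδ 1 1
    simpa using this
  have hpow : ∀ (i : Fin r) (n : ℕ), δ (g i ^ n) = (g i ^ n) • (n • dl i) := by
    intro i n
    induction n with
    | zero => simp [h1]
    | succ n ih =>
      rw [pow_succ, hδ, hg, ih, smul_smul, smul_smul, mul_comm (g i) (g i ^ n), ← smul_add]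
      congr 1
      rw [add_comm, succ_nsmul]
  have : ∀ s : Finset (Fin r), δ (∏ i ∈ s, g i ^ μ i) = (∏ i ∈ s, g i ^ μ i) • ∑ i ∈ s, μ i • dl i := by
    intro s
    induction s using Finset.induction_on with
    | empty => simp [h1]
    | insert i s hi ih =>
      rw [Finset.prod_insert hi, Finset.sum_insert hi, hδ, ih, hpow, smul_smul, smul_smul, smul_add,
        mul_comm (∏ i ∈ s, g i ^ μ i) (g i ^ μ i), add_comm]
  exact this Finset.univ

theorem reg_prod (hreg : ∀ i p (x : M ⊗[B] ↥(⋀[B]^p N)), g i • x = 0 → x = 0) (μ : Fin r → ℕ)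
    (p : ℕ) (x : M ⊗[B] ↥(⋀[B]^p N)) (hx : (∏ i, g i ^ μ i) • x = 0) : x = 0 := by
  have hpow : ∀ (i : Fin r) (n : ℕ) (x : M ⊗[B] ↥(⋀[B]^p N)), g i ^ n • x = 0 → x = 0 := by
    intro i n
    induction n with
    | zero => intro x hx; simpa using hx
    | succ n ih =>
      intro x hx
      rw [pow_succ, mul_smul] at hx
      exact hreg i p x (ih _ hx)
  have : ∀ (s : Finset (Fin r)) (x : M ⊗[B] ↥(⋀[B]^p N)), (∏ i ∈ s, g i ^ μ i) • x = 0 → x = 0 := by
    intro s
    induction s using Finset.induction_on with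
    | empty => intro x hx; simpa using hx
    | insert i s hi ih =>
      intro x hx
      rw [Finset.prod_insert hi, mul_smul] at hx
      exact ih _ (hpow i _ _ hx)
  exact this Finset.univ x hx

/-- The chain argument. -/
theorem acycMod_prod (hδ : ∀ a b, δ (a * b) = a • δ b + b • δ a) (hg : ∀ i, δ (g i) = g i • dl i)
    (hreg : ∀ i p (x : M ⊗[B] ↥(⋀[B]^p N)), g i • x = 0 → x = 0) (ν : Fin r → ℕ)
    (hstep : ∀ (i : Fin r) (μ : Fin r → ℕ), μ i < ν i →
      (L.twist (∏ i, g i ^ μ i) (∑ i, μ i • dl i) (delta_prod g dl hδ hg μ) (reg_prod g hreg μ)).AcycMod (g i)) :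
    L.AcycMod (∏ i, g i ^ ν i) := by
  have key : ∀ (n : ℕ) (μ : Fin r → ℕ), μ ≤ ν → ∑ i, μ i = n → L.AcycMod (∏ i, g i ^ μ i) := by
    intro n
    induction n with
    | zero =>
      intro μ _ h
      have : ∏ i, g i ^ μ i = 1 := by
        apply Finset.prod_eq_one
        intro i _
        have := (Finset.sum_eq_zero_iff.1 h) i (Finset.mem_univ i)
        rw [this, pow_zero]
      rw [this]
      exact L.acycMod_one
    | succ n ih =>
      intro μ hμ h
      have : ∃ i, μ i ≠ 0 := by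
        by_contra hcon
        push Not at hcon
        simp [hcon] at h
      obtain ⟨i, hi⟩ := this
      let μ' : Fin r → ℕ := Function.update μ i (μ i - 1)
      have h1 : μ' ≤ μ := by
        intro j
        by_cases hj : j = i
        · subst hj; simp [μ']
        · simp [μ', Function.update_of_ne hj]
      have h2 : ∑ j, μ' j = n := by
        have e1 : ∑ j, μ j = μ i + ∑ j ∈ Finset.univ.erase i, μ j :=
          (Finset.add_sum_erase _ _ (Finset.mem_univ i)).symm
        have e2 : ∑ j, μ' j = μ' i + ∑ j ∈ Finset.univ.erase i, μ' j :=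
          (Finset.add_sum_erase _ _ (Finset.mem_univ i)).symm
        have e3 : ∑ j ∈ Finset.univ.erase i, μ' j = ∑ j ∈ Finset.univ.erase i, μ j := by
          apply Finset.sum_congr rfl
          intro j hj
          simp [μ', Function.update_of_ne (Finset.ne_of_mem_erase hj)]
        have e4 : μ' i = μ i - 1 := by simp [μ']
        omega
      have h3 : ∏ j, g j ^ μ j = (∏ j, g j ^ μ' j) * g i := by
        rw [← Finset.mul_prod_erase Finset.univ (fun j => g j ^ μ j) (Finset.mem_univ i),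
          ← Finset.mul_prod_erase Finset.univ (fun j => g j ^ μ' j) (Finset.mem_univ i)]
        have e3 : ∏ j ∈ Finset.univ.erase i, g j ^ μ' j = ∏ j ∈ Finset.univ.erase i, g j ^ μ j := by
          apply Finset.prod_congr rfl
          intro j hj
          simp [μ', Function.update_of_ne (Finset.ne_of_mem_erase hj)]
        rw [e3]
        have e4 : μ' i = μ i - 1 := by simp [μ']
        rw [e4]
        obtain ⟨k, hk⟩ : ∃ k, μ i = k + 1 := ⟨μ i - 1, by omega⟩
        rw [hk, Nat.add_sub_cancel, pow_succ]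
        ring
      rw [h3]
      have h4 : μ' i < ν i := by
        have e4 : μ' i = μ i - 1 := by simp [μ']
        have h5 : μ i ≤ ν i := hμ i
        omega
      exact L.acycMod_mul _ _ _ (delta_prod g dl hδ hg μ') (reg_prod g hreg μ')
        (ih μ' (h1.trans hμ) h2) (hstep i μ' h4)
  exact key _ ν le_rfl rfl

end chain

section step

variable {Mb : Type u} [AddCommGroup Mb] [Module B Mb] (π : M →ₗ[B] Mb)
variable (hspan : Submodule.span B (Set.range ω) = ⊤)

include hspan in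
theorem acycMod_of_bijective (θ : Module.Dual B N) (hθ : ∀ k, θ (ω k) = 0 ∨ θ (ω k) = 1)
    (hπs : Function.Surjective π) (t : B)
    (hπk : ∀ m, π m = 0 → ∃ m', m = t • m') (hπt : ∀ m, π (t • m) = 0)
    (dt : N) (hdt : δ t = t • dt)
    (Rb : Mb →ₗ[B] Mb) (hRb : Function.Bijective Rb) (hR : ∀ m, Rb (π m) = π (ev θ (L.na m))) :
    L.AcycMod t := by
  let Re : Mb ≃ₗ[B] Mb := LinearEquiv.ofBijective Rb hRb
  refine ⟨fun x w hx => ?_, fun q x w hx => ?_⟩
  · exact (L.acyc_aux π hspan θ hθ hπs t hπk hπt dt hdt Re hR 0 x w hx).1 rfl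
  · exact (L.acyc_aux π hspan θ hθ hπs t hπk hπt dt hdt Re hR (q + 1) x w hx).2 q rfl

include hspan in
/-- one step of the chain -/
theorem acycMod_twist_of_bijective (θ : Module.Dual B N) (hθ : ∀ k, θ (ω k) = 0 ∨ θ (ω k) = 1)
    (hπs : Function.Surjective π) (t : B)
    (hπk : ∀ m, π m = 0 → ∃ m', m = t • m') (hπt : ∀ m, π (t • m) = 0)
    (dt : N) (hdt : δ t = t • dt)
    (R : Mb →ₗ[B] Mb) (hR : ∀ m, R (π m) = π (ev θ (L.na m)))
    (u : B) (α : N) (hu : δ u = u • α)
    (hreg : ∀ p (x : M ⊗[B] ↥(⋀[B]^p N)), u • x = 0 → x = 0) (c : ℕ) (hα : θ α = c)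
    (hRb : Function.Bijective (R + c • (LinearMap.id : Mb →ₗ[B] Mb))) :
    (L.twist u α hu hreg).AcycMod t := by
  refine (L.twist u α hu hreg).acycMod_of_bijective π hspan θ hθ hπs t hπk hπt dt hdt
    (R + c • LinearMap.id) hRb ?_
  intro m
  rw [ev_twist_na, map_add, ← hR, hα, LinearMap.add_apply, LinearMap.smul_apply, LinearMap.id_apply,
    Nat.cast_smul_eq_nsmul, map_nsmul]

end step

end K913.LogDG.Str
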