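import Groth.Agent.LogNCD.K922.DSec
import Groth.Agent.Ega1.TensorRestrict
import Groth.Agent.PerfA.QCohEpi
import Groth.Agent.CohqA.AffMorCrit

/-!
# Tensor products of quasi-coherent modules over affine opens: twists by ideals and restriction to closed subschemes
-/

set_option autoImplicit false

universe u

open CategoryTheory CategoryTheory.Limits AlgebraicGeometry Opposite TopologicalSpace
open scoped TensorProduct
open Groth.Agent.Sga67.Sec Groth.Agent.Sga67.LocBasis Groth.Agent.Sga67.ExtSheaf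
  Groth.Agent.Sga67.TensorOps

namespace K913.TauAff

open K922.Tens K922.Quot

variable {X : Scheme.{u}}

theorem tau_bijective_affine {M N : X.Modules} (hM : Coh.IsQCoh M) (hN : Coh.IsQCoh N) (U : X.affineOpens) :
    Function.Bijective (tau M N U.1) :=
  Groth.Agent.Ega1.TensorRestrict.bijective_toT M N hM hN U.2

/-- Sections of a tensor product over an affine open are sums of pure tensors. -/
theorem tensor_induction {M N : X.Modules} (hM : Coh.IsQCoh M) (hN : Coh.IsQCoh N) (U : X.affineOpens)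
    (C : Sec (CohB1.tensorMod M N) U.1 → Prop) (h0 : C 0) (hadd : ∀ x y, C x → C y → C (x + y))
    (ht : ∀ (m : Sec M U.1) (n : Sec N U.1), C (SecTwist.tmul M N U.1 m n))
    (s : Sec (CohB1.tensorMod M N) U.1) : C s := by
  obtain ⟨t, rfl⟩ := (tau_bijective_affine hM hN U).2 s
  induction t using TensorProduct.induction_on with
  | zero => rw [map_zero]; exact h0
  | tmul m n => exact ht m n
  | add x y hx hy => rw [map_add]; exact hadd _ _ hx hy

section twist

variable (E : X.Modules) (I : X.IdealSheafData)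

theorem inclTwist_tmul (U : X.Opens) (e : Sec E U) (a : Sec (ClSub.idealMod I) U) :
    appS (LogNCD.inclTwist E I) U (SecTwist.tmul E (ClSub.idealMod I) U e a) =
      OmegaSh.idealSect I U a • e := by
  rw [LogNCD.inclTwist, appS_comp]
  have h1 := tensorMap_tau (𝟙 E) (ClSub.idealModι I) U (e ⊗ₜ[Γ(X, U)] a)
  rw [TensorProduct.map_tmul] at h1
  have h2 : appS (KoszTw.tensorMap (𝟙 E) (ClSub.idealModι I)) U (SecTwist.tmul E (ClSub.idealMod I) U e a) =
      SecTwist.tmul E (Coh.structureModule X) U e (fnL X U (OmegaSh.idealSect I U a)) := h1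
  refine (congrArg (appS (SecTwist.unitorR E).hom U) h2).trans ?_
  exact SecTwist.unitorR_tmul E U e _

variable {E} (hE : FlatMod.IsFinLocFree E)

include hE in
theorem mono_inclTwist : Mono (LogNCD.inclTwist E I) := by
  have h := mono_tmap hE (ClSub.idealModι I)
  rw [← tensorMap_id_left] at h
  rw [LogNCD.inclTwist]
  infer_instance

include hE in
theorem inclTwist_injective (U : X.Opens) : Function.Injective (appS (LogNCD.inclTwist E I) U) := by
  have := mono_inclTwist I hE
  exact injective_of_mono _ U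

include hE in
/-- The image of `E(-B) → E` over an affine open where `B` is given by `G`. -/
theorem range_inclTwist (U : X.affineOpens) (G : Γ(X, U.1)) (hG : I.ideal U = Ideal.span {G})
    (e : Sec E U.1) : (∃ s, appS (LogNCD.inclTwist E I) U.1 s = e) ↔ ∃ e', e = G • e' := by
  constructor
  · rintro ⟨s, rfl⟩
    refine tensor_induction (Groth.Agent.PerfA.QCohEpi.isQCoh_of_isFinLocFree hE)
      (Groth.Agent.CohqA.IdealMod.isQCoh_idealMod I) U
      (fun s => ∃ e', appS (LogNCD.inclTwist E I) U.1 s = G • e') ?_ ?_ ?_ s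
    · exact ⟨0, by simp⟩
    · rintro x y ⟨a, ha⟩ ⟨b, hb⟩
      exact ⟨a + b, by rw [map_add, ha, hb, smul_add]⟩
    · intro m a
      have h1 : OmegaSh.idealSect I U.1 a ∈ I.ideal U := (exists_idealSect_iff I U _).1 ⟨a, rfl⟩
      rw [hG, Ideal.mem_span_singleton'] at h1
      obtain ⟨c, hc⟩ := h1
      refine ⟨c • m, ?_⟩
      rw [inclTwist_tmul, ← hc, smul_smul, mul_comm]
  · rintro ⟨e', rfl⟩
    obtain ⟨a, ha⟩ := (exists_idealSect_iff I U G).2 (by rw [hG]; exact Ideal.mem_span_singleton_self G)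
    exact ⟨SecTwist.tmul E (ClSub.idealMod I) U.1 e' a, by rw [inclTwist_tmul, ha]⟩

/-- `E(-B) ≅ E` over an affine open where `B` is given by a regular `G`. -/
theorem exists_j (U : X.affineOpens) (G : Γ(X, U.1)) (hG : I.ideal U = Ideal.span {G})
    (hreg : ∀ e : Sec E U.1, G • e = 0 → e = 0) (hE : FlatMod.IsFinLocFree E) :
    ∃ j : Sec (CohB1.tensorMod E (ClSub.idealMod I)) U.1 ≃ₗ[Γ(X, U.1)] Sec E U.1,
      ∀ s, appS (LogNCD.inclTwist E I) U.1 s = G • j s := by
  let A := appS (LogNCD.inclTwist E I) U.1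
  have hA : Function.Injective A := inclTwist_injective I hE U.1
  have h1 : ∀ s, ∃ e', A s = G • e' := fun s => (range_inclTwist I hE U G hG (A s)).1 ⟨s, rfl⟩
  choose j hj using h1
  have huniq : ∀ e e' : Sec E U.1, G • e = G • e' → e = e' := by
    intro e e' h
    rw [← sub_eq_zero]
    apply hreg
    rw [smul_sub, h, sub_self]
  let jl : Sec (CohB1.tensorMod E (ClSub.idealMod I)) U.1 →ₗ[Γ(X, U.1)] Sec E U.1 :=
    { toFun := j
      map_add' := fun s t => huniq _ _ (by rw [← hj, map_add, smul_add, hj, hj])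
      map_smul' := fun c s => huniq _ _ (by
        rw [← hj, map_smul, RingHom.id_apply, smul_smul, mul_comm, ← smul_smul, ← hj]) }
  refine ⟨LinearEquiv.ofBijective jl ⟨?_, ?_⟩, hj⟩
  · intro s t h
    apply hA
    rw [hj, hj]
    exact congrArg (G • ·) h
  · intro e
    obtain ⟨s, hs⟩ := (range_inclTwist I hE U G hG (G • e)).2 ⟨e, rfl⟩
    exact ⟨s, huniq _ _ ((hj s).symm.trans hs)⟩

end twist

section quot

variable (E : X.Modules) (I : X.IdealSheafData)

/-- `E → E ⊗ O_B`. -/
noncomputable def toQuot : E ⟶ CohB1.tensorMod E (ClSub.quotMod I) :=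
  (SecTwist.unitorR E).inv ≫ KoszTw.tensorMap (𝟙 E) (ClSub.toSubscheme I)

theorem toQuot_apply (U : X.Opens) (e : Sec E U) :
    appS (toQuot E I) U e = SecTwist.tmul E (ClSub.quotMod I) U e (LogNCD.oneOn I U) := by
  have h0 : appS (SecTwist.unitorR E).inv U e =
      SecTwist.tmul E (Coh.structureModule X) U e (fnL X U 1) := by
    have h := SecTwist.unitorR_tmul E U e (1 : Γ(X, U))
    have h2 : appS (SecTwist.unitorR E).hom U (SecTwist.tmul E (Coh.structureModule X) U e (fnL X U 1)) =
      (1 : Γ(X, U)) • e := h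
    rw [one_smul] at h2
    rw [← h2, appS_hom_inv, h2]
  rw [toQuot, appS_comp, h0]
  have h1 := tensorMap_tau (𝟙 E) (ClSub.toSubscheme I) U (e ⊗ₜ[Γ(X, U)] (fnL X U 1))
  rw [TensorProduct.map_tmul] at h1
  exact h1

variable {E} (hE : FlatMod.IsFinLocFree E)

include hE in
theorem toQuot_surjective (U : X.affineOpens) : Function.Surjective (appS (toQuot E I) U.1) := by
  intro s
  refine tensor_induction (Groth.Agent.PerfA.QCohEpi.isQCoh_of_isFinLocFree hE)
      (Groth.Agent.CohqA.AffMorCrit.isQCoh_quotMod I) U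
      (fun s => ∃ e, appS (toQuot E I) U.1 e = s) ?_ ?_ ?_ s
  · exact ⟨0, by simp⟩
  · rintro x y ⟨a, ha⟩ ⟨b, hb⟩
    exact ⟨a + b, by rw [map_add, ha, hb]⟩
  · intro m q
    obtain ⟨a, rfl⟩ := cls_surjective I U q
    refine ⟨a • m, ?_⟩
    rw [map_smul, toQuot_apply, cls_eq_smul_one]
    have h1 := (tau E (ClSub.quotMod I) U.1).map_smul a (m ⊗ₜ[Γ(X, U.1)] LogNCD.oneOn I U.1)
    rw [← TensorProduct.tmul_smul] at h1
    exact h1.symm

theorem toQuot_smul_eq_zero (U : X.affineOpens) (a : Γ(X, U.1)) (ha : a ∈ I.ideal U) (e : Sec E U.1) :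
    appS (toQuot E I) U.1 (a • e) = 0 := by
  rw [map_smul]
  exact smul_tensor_eq_zero I E U.1 a ((cls_eq_zero_iff I U a).2 ha) _

theorem inclTwist_toQuot : LogNCD.inclTwist E I ≫ toQuot E I = 0 := by
  rw [LogNCD.inclTwist, toQuot, Category.assoc, Iso.hom_inv_id_assoc, tensorMap_id_left, tensorMap_id_left]
  exact (tensorShort E (ses I)).zero

include hE in
theorem exact_toQuot (U : X.Opens) (e : Sec E U) (he : appS (toQuot E I) U e = 0) :
    ∃ s, appS (LogNCD.inclTwist E I) U s = e := by
  have hS := tensor_shortExact hE (ses_shortExact I)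
  have := hS.mono_f
  obtain ⟨t, ht⟩ := exists_of_appS_eq_zero hS.exact (appS (SecTwist.unitorR E).inv U e) (by
    rw [toQuot, appS_comp, tensorMap_id_left] at he
    exact he)
  refine ⟨t, ?_⟩
  rw [LogNCD.inclTwist, appS_comp, tensorMap_id_left]
  have h1 : appS (tmap E (ClSub.idealModι I)) U t = appS (SecTwist.unitorR E).inv U e := ht
  rw [h1, appS_inv_hom]

include hE in
theorem toQuot_eq_zero (U : X.affineOpens) (G : Γ(X, U.1)) (hG : I.ideal U = Ideal.span {G})
    (e : Sec E U.1) (he : appS (toQuot E I) U.1 e = 0) : ∃ e', e = G • e' :=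
  (range_inclTwist I hE U G hG e).1 (exact_toQuot I hE U.1 e he)

end quot

end K913.TauAff
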