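import Groth.Agent.LogNCD.K913.TermLoc
import Groth.Agent.LogNCD.K913.TauAff
import Groth.Agent.LogNCD.K913.Chart

/-!
# The logarithmic de Rham complex over a chart
-/

set_option autoImplicit false

universe u w

open CategoryTheory CategoryTheory.Limits AlgebraicGeometry Opposite TopologicalSpace
open scoped TensorProduct
open Groth.Agent.Sga67.Sec Groth.Agent.Sga67.LocBasis

namespace K913.ChartAcyc

open K913.Contr K913.LogDG K913.CxLoc K913.CxStr K913.TermLoc K913.TauAff K913.Chart K922.DSec K922.Quot K922.Tens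

variable {X S : Scheme.{u}} {f : X ⟶ S} {Ω' : X.Modules} {d : OmegaSh.Der f Ω'} {r : ℕ}
  {D : Fin r → X.IdealSheafData} {Λ : LogNCD.LogMod d D}

section chart

variable {U : X.affineOpens} (C : Ch Λ U)

/-- the product of the equations -/
noncomputable def G : Γ(X, U.1) := ∏ i, C.g i

theorem G_mem : G C ∈ nonZeroDivisors Γ(X, U.1) :=
  prod_mem fun i _ => C.g_mem i

/-- the complement of the divisor -/
noncomputable def V : X.affineOpens := X.affineBasicOpen (G C)

theorem V_le : (V C).1 ≤ U.1 := X.basicOpen_le (G C)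

theorem resO_injective : Function.Injective (resO X (V_le C)) := resO_basicOpen_injective U (G C) (G_mem C)

theorem isUnit_resO_g (i : Fin r) : IsUnit (resO X (V_le C) (C.g i)) := by
  have h : IsUnit (resO X (V_le C) (G C)) := by
    have := RingedSpace.isUnit_res_basicOpen X.toRingedSpace (G C)
    exact this
  rw [G, map_prod] at h
  exact (IsUnit.prod_iff.1 h) i (Finset.mem_univ i)

theorem ω_res (k : Fin C.n) : ∃ uu ww : Γ(X, (V C).1), (uu = 1 ∨ uu * ww = 1) ∧
    res Λ.L (V_le C) (C.ω k) = uu • dS (LogNCD.der Λ) (V C).1 ww := by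
  by_cases h : ∃ i, C.e i = some k
  · obtain ⟨i, hi⟩ := h
    obtain ⟨a, ha⟩ := (isUnit_resO_g C i).exists_left_inv
    refine ⟨a, resO X (V_le C) (C.g i), Or.inr ha, ?_⟩
    have h1 := congrArg (res Λ.L (V_le C)) (C.ω_some i k hi)
    rw [res_smul, dS_res] at h1
    rw [← h1, smul_smul, ha, one_smul]
  · push Not at h
    obtain ⟨v, hv⟩ := C.ω_other k h
    exact ⟨1, resO X (V_le C) v, Or.inl rfl, by rw [hv, dS_res, one_smul]⟩

theorem gen_V : Submodule.span Γ(X, (V C).1)
    (Set.range (fun b : Γ(X, (V C).1) => dS (LogNCD.der Λ) (V C).1 b)) = ⊤ := by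
  rw [eq_top_iff, ← (C.isLocBasis.basis (V_le C)).span_eq, Submodule.span_le]
  rintro _ ⟨k, rfl⟩
  rw [IsLocBasis.basis_apply]
  obtain ⟨uu, ww, _, h⟩ := ω_res C k
  rw [h]
  exact Submodule.smul_mem _ _ (Submodule.subset_span ⟨ww, rfl⟩)

/-- log differentials of the equations -/
noncomputable def dl (i : Fin r) : Sec Λ.L U.1 :=
  match C.e i with
  | none => 0
  | some k => C.ω k

theorem dl_some (i : Fin r) (k : Fin C.n) (h : C.e i = some k) : dl C i = C.ω k := by
  rw [dl, h]

theorem dl_none (i : Fin r) (h : C.e i = none) : dl C i = 0 := by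
  rw [dl, h]

theorem dS_g (i : Fin r) : dS (LogNCD.der Λ) U.1 (C.g i) = C.g i • dl C i := by
  rcases h : C.e i with _ | k
  · rw [dl_none C i h, smul_zero, C.none_one i h, dS_one]
  · rw [dl_some C i k h, C.ω_some i k h]

/-- the coordinate functional -/
noncomputable def θ (k : Fin C.n) : Module.Dual Γ(X, U.1) (Sec Λ.L U.1) :=
  (C.isLocBasis.basis le_rfl).coord k

theorem basis_self_apply (k : Fin C.n) : C.isLocBasis.basis le_rfl k = C.ω k := by
  rw [IsLocBasis.basis_apply, res_self]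

theorem θ_ω (k l : Fin C.n) : θ C k (C.ω l) = if l = k then 1 else 0 := by
  rw [θ, ← basis_self_apply, Module.Basis.coord_apply, Module.Basis.repr_self, Finsupp.single_apply]

theorem θ_ω' (k l : Fin C.n) : θ C k (C.ω l) = 0 ∨ θ C k (C.ω l) = 1 := by
  rw [θ_ω]; split_ifs <;> simp

theorem θ_dl (i j : Fin r) (k : Fin C.n) (h : C.e i = some k) : θ C k (dl C j) = if j = i then 1 else 0 := by
  rcases hj : C.e j with _ | l
  · rw [dl_none C j hj, map_zero, if_neg]
    rintro rfl
    rw [h] at hj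
    exact Option.some_ne_none _ hj
  · rw [dl_some C j l hj, θ_ω]
    by_cases hij : j = i
    · subst hij
      rw [h] at hj
      rw [if_pos rfl, if_pos (Option.some_injective _ hj).symm]
    · rw [if_neg hij, if_neg]
      rintro rfl
      exact hij (C.e_inj j i l hj h)

theorem res_eq_θ (i : Fin r) (k : Fin C.n) (h : C.e i = some k) (α : Sec Λ.L U.1) :
    appS (Λ.res i) U.1 α = θ C k α • LogNCD.oneOn (D i) U.1 := by
  have h1 : appS (Λ.res i) U.1 = (LinearMap.toSpanSingleton _ _ (LogNCD.oneOn (D i) U.1)) ∘ₗ θ C k := by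
    apply (C.isLocBasis.basis le_rfl).ext
    intro l
    rw [basis_self_apply, LinearMap.comp_apply, LinearMap.toSpanSingleton_apply, θ_ω]
    by_cases hl : l = k
    · subst hl
      rw [if_pos rfl, one_smul, C.res_self i l h]
    · rw [if_neg hl, zero_smul, C.res_ne i l]
      rw [h]
      exact fun h' => hl (Option.some_injective _ h').symm
  rw [h1]
  rfl

variable {E : X.Modules} (hE : FlatMod.IsFinLocFree E)
  {nabla : Coh.toAb E ⟶ Coh.toAb (CohB1.tensorMod E Λ.L)} (hc : ConnSh.IsConn (LogNCD.der Λ) E nabla)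
  (K : ConnSh.Cx (LogNCD.der Λ) E nabla)
  {m : ℕ} {b : Fin m → Sec E U.1} (hb : IsLocBasis b)

/-- The structure over a chart. -/
noncomputable def strC : LogDG.Str (B := Γ(X, U.1)) (N := Sec Λ.L U.1) (Sec E U.1)
    (fun b : Γ(X, U.1) => dS (LogNCD.der Λ) U.1 b) C.ω :=
  str K hc (V_le C) (gen_V C) (fun p => rP_injective K p (V_le C) hb C.isLocBasis (resO_injective C))
    C.ω (ω_res C)

theorem strC_D (p : ℕ) (x : PU E Λ.L p U) : (strC C hc K hb).D p x = K913.CxLoc.D K p U x := rfl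

theorem strC_na (e : Sec E U.1) : (strC C hc K hb).na e = na K U e := rfl

theorem span_ω : Submodule.span Γ(X, U.1) (Set.range C.ω) = ⊤ := by
  rw [eq_top_iff, ← (C.isLocBasis.basis le_rfl).span_eq, Submodule.span_le]
  rintro _ ⟨k, rfl⟩
  rw [basis_self_apply]
  exact Submodule.subset_span ⟨k, rfl⟩

include hE in
/-- The residue in a chart: `(1 ⊗ res_i) (∇ e) = (θ_k (∇ e)) mod g_i`. -/
theorem residue_apply (i : Fin r) (k : Fin C.n) (h : C.e i = some k) (hL : Coh.IsQCoh Λ.L)
    (s : Sec (CohB1.tensorMod E Λ.L) U.1) :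
    appS (KoszTw.tensorMap (𝟙 E) (Λ.res i)) U.1 s =
      appS (toQuot E (D i)) U.1 (ev (θ C k) (lo K 1 U (appS K.iso1.inv U.1 s))) := by
  refine tensor_induction (Groth.Agent.PerfA.QCohEpi.isQCoh_of_isFinLocFree hE) hL U
    (fun s => appS (KoszTw.tensorMap (𝟙 E) (Λ.res i)) U.1 s =
      appS (toQuot E (D i)) U.1 (ev (θ C k) (lo K 1 U (appS K.iso1.inv U.1 s)))) ?_ ?_ ?_ s
  · simp
  · intro x y hx hy
    simp only [map_add, hx, hy]
  · intro e α
    rw [lo_iso1_inv_tmul, ev_tmul, exteriorPower.oneEquiv_ιMulti, map_smul, toQuot_apply]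
    have h1 := tensorMap_tau (𝟙 E) (Λ.res i) U.1 (e ⊗ₜ[Γ(X, U.1)] α)
    rw [TensorProduct.map_tmul, res_eq_θ C i k h, TensorProduct.tmul_smul, map_smul] at h1
    exact h1

include hE in
theorem residue_na (i : Fin r) (k : Fin C.n) (h : C.e i = some k) (hL : Coh.IsQCoh Λ.L)
    (ρ : E ⟶ CohB1.tensorMod E (ClSub.quotMod (D i))) (hρ : LogNCD.IsResidue Λ E nabla i ρ)
    (e : Sec E U.1) : appS ρ U.1 e = appS (toQuot E (D i)) U.1 (ev (θ C k) (na K U e)) := by
  have h1 : ConnSh.secApp ((SheafOfModules.toSheaf X.ringCatSheaf).map ρ) U.1 e =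
    ConnSh.secApp (nabla ≫ (SheafOfModules.toSheaf X.ringCatSheaf).map (KoszTw.tensorMap (𝟙 E) (Λ.res i))) U.1 e := by
    rw [hρ]
  rw [secApp_map, secApp_comp, secApp_map] at h1
  rw [h1, residue_apply C hE K i k h hL]
  rfl

theorem bijective_appS {M N : X.Modules} (g : M ⟶ N) [IsIso g] (W : X.Opens) : Function.Bijective (appS g W) := by
  refine Function.bijective_iff_has_inverse.2 ⟨appS (inv g) W, fun s => ?_, fun s => ?_⟩
  · rw [← appS_comp, IsIso.hom_inv_id]; rfl
  · rw [← appS_comp, IsIso.inv_hom_id]; rfl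

theorem appS_nsmul {M N : X.Modules} (c : ℕ) (g : M ⟶ N) (W : X.Opens) (s : Sec M W) :
    appS (c • g) W s = c • appS g W s := by
  induction c with
  | zero => rw [zero_smul, zero_smul, appS_zero]
  | succ c ih => rw [succ_nsmul, succ_nsmul, appS_add, ih]

include hE in
/-- Acyclicity modulo `g^ν` over a chart, from the residue condition. -/
theorem acycMod_chart (hL : Coh.IsQCoh Λ.L) (ν : Fin r → ℕ)
    (ρ : ∀ j : Fin r, E ⟶ CohB1.tensorMod E (ClSub.quotMod (D j))) (hρ : ∀ j, LogNCD.IsResidue Λ E nabla j (ρ j))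
    (R : ∀ j : Fin r, CohB1.tensorMod E (ClSub.quotMod (D j)) ⟶ CohB1.tensorMod E (ClSub.quotMod (D j)))
    (hR : ∀ j, (SecTwist.unitorR E).inv ≫ KoszTw.tensorMap (𝟙 E) (ClSub.toSubscheme (D j)) ≫ R j = ρ j)
    (hres : ∀ (j : Fin r) (c : ℕ), c < ν j → IsIso (R j + c • 𝟙 (CohB1.tensorMod E (ClSub.quotMod (D j))))) :
    (strC C hc K hb).AcycMod (∏ i, C.g i ^ ν i) := by
  have hreg : ∀ i p (x : Sec E U.1 ⊗[Γ(X, U.1)] ↥(⋀[Γ(X, U.1)]^p (Sec Λ.L U.1))), C.g i • x = 0 → x = 0 :=
    fun i p x hx => PU_smul_eq_zero p hb C.isLocBasis (C.g i) (C.g_mem i) x hx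
  refine (strC C hc K hb).acycMod_prod C.g (dl C) (dS_mul (LogNCD.der Λ) U.1) (dS_g C) hreg ν ?_
  intro i μ hμ
  rcases hi : C.e i with _ | k
  · apply LogDG.Str.acycMod_of_isUnit
    rw [C.none_one i hi]
    exact isUnit_one
  · refine (strC C hc K hb).acycMod_twist_of_bijective (Mb := Sec (CohB1.tensorMod E (ClSub.quotMod (D i))) U.1)
      (appS (toQuot E (D i)) U.1) (span_ω C) (θ C k) (θ_ω' C k)
      (toQuot_surjective (D i) hE U) (C.g i) (toQuot_eq_zero (D i) hE U (C.g i) (C.ideal_eq i)) ?_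
      (dl C i) (dS_g C i) (appS (R i) U.1) ?_ _ _ _ _ (μ i) ?_ ?_
    · intro e
      exact toQuot_smul_eq_zero (D i) U (C.g i) (by rw [C.ideal_eq]; exact Ideal.mem_span_singleton_self _) e
    · intro e
      have h1 : appS (ρ i) U.1 e = appS (R i) U.1 (appS (toQuot E (D i)) U.1 e) := by
        rw [← hR i, ← Category.assoc, appS_comp]
        rfl
      rw [← h1, residue_na C hE K i k hi hL (ρ i) (hρ i)]
      rfl
    · rw [map_sum, Finset.sum_eq_single i]
      · rw [map_nsmul, θ_dl C i i k hi, if_pos rfl, nsmul_one]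
      · intro j _ hj
        rw [map_nsmul, θ_dl C i j k hi, if_neg hj, smul_zero]
      · simp
    · have h1 := hres i (μ i) hμ
      have h2 := bijective_appS (R i + μ i • 𝟙 (CohB1.tensorMod E (ClSub.quotMod (D i)))) U.1
      convert h2 using 1
      ext s
      rw [appS_add, appS_nsmul, appS_id]
      rfl

end chart

end K913.ChartAcyc
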