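import Groth.Prelude.Def_Conn
import Mathlib.LinearAlgebra.CliffordAlgebra.Contraction

/-!
# Contraction of exterior forms with a linear functional

`contr θ p : ⋀^(p+1) N → ⋀^p N` and `lw α p : ⋀^p N → ⋀^(p+1) N` (left wedge with the one-form `α`), with
`contr θ (α ∧ η) = θ α • η - α ∧ contr θ η`.
-/

set_option autoImplicit false

open TensorProduct

namespace K913.Contr

universe u

variable {B N : Type u} [CommRing B] [AddCommGroup N] [Module B N]

theorem contractLeft_mem (θ : Module.Dual B N) (p : ℕ) (x : ExteriorAlgebra B N)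
    (hx : x ∈ ⋀[B]^(p + 1) N) : CliffordAlgebra.contractLeft θ x ∈ ⋀[B]^p N := by
  induction p generalizing x with
  | zero =>
    rw [← exteriorPower.ιMulti_span_fixedDegree] at hx
    induction hx using Submodule.span_induction with
    | mem x hx =>
      obtain ⟨v, rfl⟩ := hx
      rw [ExteriorAlgebra.ιMulti_apply]
      simp only [List.ofFn_succ, List.ofFn_zero, List.prod_cons, List.prod_nil, mul_one]
      rw [show ExteriorAlgebra.ι B (v 0) = CliffordAlgebra.ι (0 : QuadraticForm B N) (v 0) from rfl,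
        CliffordAlgebra.contractLeft_ι]
      rw [← exteriorPower.ιMulti_span_fixedDegree]
      rw [Algebra.algebraMap_eq_smul_one]
      refine Submodule.smul_mem _ _ (Submodule.subset_span ⟨Fin.elim0, ?_⟩)
      simp [ExteriorAlgebra.ιMulti_apply]
    | zero => simp
    | add x y _ _ hx hy => rw [map_add]; exact Submodule.add_mem _ hx hy
    | smul a x _ hx => rw [map_smul]; exact Submodule.smul_mem _ _ hx
  | succ p ih =>
    rw [← exteriorPower.ιMulti_span_fixedDegree] at hx
    induction hx using Submodule.span_induction with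
    | mem x hx =>
      obtain ⟨v, rfl⟩ := hx
      rw [ExteriorAlgebra.ιMulti_succ_apply]
      rw [show ExteriorAlgebra.ι B (v 0) = CliffordAlgebra.ι (0 : QuadraticForm B N) (v 0) from rfl,
        CliffordAlgebra.contractLeft_ι_mul]
      refine Submodule.sub_mem _ (Submodule.smul_mem _ _ (ExteriorAlgebra.ιMulti_range B _ ⟨_, rfl⟩)) ?_
      have h1 := ih _ (ExteriorAlgebra.ιMulti_range B _ ⟨Matrix.vecTail v, rfl⟩)
      have h2 : ExteriorAlgebra.ι B (v 0) ∈ ⋀[B]^1 N := by
        rw [← exteriorPower.ιMulti_span_fixedDegree]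
        exact Submodule.subset_span ⟨fun _ => v 0, by simp [ExteriorAlgebra.ιMulti_apply]⟩
      have h3 := SetLike.mul_mem_graded h2 h1
      rwa [add_comm] at h3
    | zero => simp
    | add x y _ _ hx hy => rw [map_add]; exact Submodule.add_mem _ hx hy
    | smul a x _ hx => rw [map_smul]; exact Submodule.smul_mem _ _ hx

/-- Contraction of a form with a functional. -/
noncomputable def contr (θ : Module.Dual B N) (p : ℕ) : ↥(⋀[B]^(p + 1) N) →ₗ[B] ↥(⋀[B]^p N) :=
  (CliffordAlgebra.contractLeft (Q := (0 : QuadraticForm B N)) θ).restrict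
    (contractLeft_mem θ p)

theorem contr_coe (θ : Module.Dual B N) (p : ℕ) (x : ↥(⋀[B]^(p + 1) N)) :
    (contr θ p x : ExteriorAlgebra B N) =
      CliffordAlgebra.contractLeft (Q := (0 : QuadraticForm B N)) θ (x : ExteriorAlgebra B N) := rfl

/-- Left wedge with a one-form. -/
noncomputable def lw (α : N) (p : ℕ) : ↥(⋀[B]^p N) →ₗ[B] ↥(⋀[B]^(p + 1) N) :=
  Conn.wedge p ((exteriorPower.oneEquiv B N).symm α)

theorem oneEquiv_symm_coe (α : N) :
    ((exteriorPower.oneEquiv B N).symm α : ExteriorAlgebra B N) = ExteriorAlgebra.ι B α := by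
  have : (exteriorPower.oneEquiv B N).symm α = exteriorPower.ιMulti B 1 (fun _ => α) := by
    apply (exteriorPower.oneEquiv B N).injective
    rw [LinearEquiv.apply_symm_apply, exteriorPower.oneEquiv_ιMulti]
  rw [this]
  simp [ExteriorAlgebra.ιMulti_apply]

theorem lw_coe (α : N) (p : ℕ) (η : ↥(⋀[B]^p N)) :
    (lw α p η : ExteriorAlgebra B N) = ExteriorAlgebra.ι B α * (η : ExteriorAlgebra B N) := by
  rw [lw, Conn.wedge_apply_coe, oneEquiv_symm_coe]

theorem lw_add (α β : N) (p : ℕ) : lw (B := B) (α + β) p = lw α p + lw β p := by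
  ext η; simp [lw_coe, add_mul]

theorem lw_smul (b : B) (α : N) (p : ℕ) : lw (b • α) p = b • lw (B := B) α p := by
  ext η; simp [lw_coe]

theorem lw_zero (p : ℕ) : lw (0 : N) p = (0 : ↥(⋀[B]^p N) →ₗ[B] ↥(⋀[B]^(p + 1) N)) := by
  ext η; simp [lw_coe]

theorem lw_ιMulti (α : N) (p : ℕ) (v : Fin p → N) :
    lw α p (exteriorPower.ιMulti B p v) = exteriorPower.ιMulti B (p + 1) (Fin.cons α v) := by
  apply Subtype.ext
  rw [lw_coe, exteriorPower.ιMulti_apply_coe, exteriorPower.ιMulti_apply_coe,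
    ExteriorAlgebra.ιMulti_succ_apply]
  rfl

theorem lw_lw_self (α : N) (p : ℕ) (η : ↥(⋀[B]^p N)) : lw α (p + 1) (lw α p η) = 0 := by
  apply Subtype.ext
  rw [lw_coe, lw_coe, ← mul_assoc, ExteriorAlgebra.ι_sq_zero, zero_mul]
  rfl

theorem lw_lw_swap (α β : N) (p : ℕ) (η : ↥(⋀[B]^p N)) :
    lw α (p + 1) (lw β p η) = - lw β (p + 1) (lw α p η) := by
  apply Subtype.ext
  have := ExteriorAlgebra.ι_add_mul_swap (R := B) α β
  rw [lw_coe, lw_coe, ← mul_assoc, NegMemClass.coe_neg, lw_coe, lw_coe, ← mul_assoc,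
    eq_neg_iff_add_eq_zero, ← add_mul, this, zero_mul]

/-- the antiderivation rule in positive degree -/
theorem contr_lw (θ : Module.Dual B N) (p : ℕ) (α : N) (η : ↥(⋀[B]^(p + 1) N)) :
    contr θ (p + 1) (lw α (p + 1) η) = θ α • η - lw α p (contr θ p η) := by
  apply Subtype.ext
  rw [contr_coe, lw_coe,
    show ExteriorAlgebra.ι B α = CliffordAlgebra.ι (0 : QuadraticForm B N) α from rfl,
    CliffordAlgebra.contractLeft_ι_mul]
  rw [AddSubgroupClass.coe_sub, lw_coe, contr_coe]
  rfl

/-- the antiderivation rule in degree zero -/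
theorem contr_lw_zero (θ : Module.Dual B N) (α : N) (η : ↥(⋀[B]^0 N)) :
    contr θ 0 (lw α 0 η) = θ α • η := by
  apply Subtype.ext
  rw [contr_coe, lw_coe,
    show ExteriorAlgebra.ι B α = CliffordAlgebra.ι (0 : QuadraticForm B N) α from rfl,
    CliffordAlgebra.contractLeft_ι_mul]
  obtain ⟨η, hη⟩ := η
  have : ∃ r : B, η = algebraMap B _ r := by
    rw [ExteriorAlgebra.exteriorPower, pow_zero, Submodule.mem_one] at hη
    obtain ⟨r, hr⟩ := hη
    exact ⟨r, hr.symm⟩
  obtain ⟨r, rfl⟩ := this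
  have h0 : (CliffordAlgebra.contractLeft (Q := (0 : QuadraticForm B N)) θ)
    ((algebraMap B (ExteriorAlgebra B N)) r) = 0 := CliffordAlgebra.contractLeft_algebraMap _ _ _
  change θ α • (algebraMap B (ExteriorAlgebra B N)) r - (CliffordAlgebra.ι (0 : QuadraticForm B N)) α *
    (CliffordAlgebra.contractLeft (Q := (0 : QuadraticForm B N)) θ) ((algebraMap B (ExteriorAlgebra B N)) r) = _
  rw [h0, mul_zero, sub_zero]
  rfl

end K913.Contr
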