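import Groth.Agent.LogNCD.K922.DSec
import Groth.Agent.LogNCD.K913.Chain

/-!
# A de Rham complex of a module with connection, on sections over affine opens
-/

set_option autoImplicit false

universe u

open CategoryTheory CategoryTheory.Limits AlgebraicGeometry Opposite TopologicalSpace
open scoped TensorProduct
open Groth.Agent.Sga67.Sec

namespace K913.CxLoc

variable {X S : Scheme.{u}} {f : X ⟶ S} {L : X.Modules} {δ : OmegaSh.Der f L} {E : X.Modules}
  {nabla : Coh.toAb E ⟶ Coh.toAb (CohB1.tensorMod E L)}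

/-- sections of `E ⊗ ⋀^p L` on an affine open. -/
abbrev PU (E L : X.Modules) (p : ℕ) (U : X.affineOpens) : Type u :=
  Sec E U.1 ⊗[Γ(X, U.1)] ↥(⋀[Γ(X, U.1)]^p (Sec L U.1))

variable (K : ConnSh.Cx δ E nabla)

/-- sections of the terms of the complex of abelian sheaves -/
abbrev KS (p : ℕ) (U : X.Opens) : Type u := (K.K.X p).obj.obj (op U)

/-- The identification of the sections over an affine open. -/
noncomputable def lo (p : ℕ) (U : X.affineOpens) : Sec (K.term p) U.1 ≃ₗ[Γ(X, U.1)] PU E L p U :=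
  K.loc p U

/-- The identification of the sections of the complex of abelian sheaves with those of the module. -/
noncomputable def io (p : ℕ) (U : X.Opens) : KS K p U ≃+ Sec (K.term p) U where
  toFun x := (K.iso p).hom.hom.app (op U) x
  invFun x := (K.iso p).inv.hom.app (op U) x
  left_inv x := by
    have := congrArg (fun ψ => ψ.hom.app (op U)) (K.iso p).hom_inv_id
    exact ConcreteCategory.congr_hom this x
  right_inv x := by
    have := congrArg (fun ψ => ψ.hom.app (op U)) (K.iso p).inv_hom_id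
    exact ConcreteCategory.congr_hom this x
  map_add' x y := map_add ((K.iso p).hom.hom.app (op U)).hom x y

/-- The differential on sections of the complex. -/
noncomputable def kd (p q : ℕ) (U : X.Opens) : KS K p U →+ KS K q U :=
  ((K.K.d p q).hom.app (op U)).hom

/-- restriction in the complex -/
noncomputable def kres (p : ℕ) {U V : X.Opens} (h : V ≤ U) : KS K p U →+ KS K p V :=
  ((K.K.X p).obj.map (homOfLE h).op).hom

theorem kd_kd (p q r : ℕ) (U : X.Opens) (x : KS K p U) : kd K q r U (kd K p q U x) = 0 := by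
  have := congrArg (fun ψ => ψ.hom.app (op U)) (K.K.d_comp_d p q r)
  exact ConcreteCategory.congr_hom this x

theorem kd_kres (p q : ℕ) {U V : X.Opens} (h : V ≤ U) (x : KS K p U) :
    kd K p q V (kres K p h x) = kres K q h (kd K p q U x) :=
  ConcreteCategory.congr_hom ((K.K.d p q).hom.naturality (homOfLE h).op) x

theorem io_kres (p : ℕ) {U V : X.Opens} (h : V ≤ U) (x : KS K p U) :
    io K p V (kres K p h x) = res (K.term p) h (io K p U x) :=
  ConcreteCategory.congr_hom ((K.iso p).hom.hom.naturality (homOfLE h).op) x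

theorem io_symm_res (p : ℕ) {U V : X.Opens} (h : V ≤ U) (x : Sec (K.term p) U) :
    (io K p V).symm (res (K.term p) h x) = kres K p h ((io K p U).symm x) := by
  rw [AddEquiv.symm_apply_eq, io_kres, AddEquiv.apply_symm_apply]

/-- The full identification. -/
noncomputable def la (p : ℕ) (U : X.affineOpens) : KS K p U.1 ≃+ PU E L p U :=
  (io K p U.1).trans (lo K p U).toAddEquiv

theorem la_apply (p : ℕ) (U : X.affineOpens) (x : KS K p U.1) : la K p U x = lo K p U (io K p U.1 x) := rfl

theorem la_symm_apply (p : ℕ) (U : X.affineOpens) (x : PU E L p U) :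
    (la K p U).symm x = (io K p U.1).symm ((lo K p U).symm x) := rfl

/-- The differential through the identifications. -/
noncomputable def D (p : ℕ) (U : X.affineOpens) : PU E L p U →+ PU E L (p + 1) U :=
  ((la K (p + 1) U).toAddMonoidHom.comp (kd K p (p + 1) U.1)).comp (la K p U).symm.toAddMonoidHom

theorem D_apply (p : ℕ) (U : X.affineOpens) (x : PU E L p U) :
    D K p U x = la K (p + 1) U (kd K p (p + 1) U.1 ((la K p U).symm x)) := rfl

theorem la_kd (p : ℕ) (U : X.affineOpens) (x : KS K p U.1) :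
    la K (p + 1) U (kd K p (p + 1) U.1 x) = D K p U (la K p U x) := by
  rw [D_apply, AddEquiv.symm_apply_apply]

theorem D_D (p : ℕ) (U : X.affineOpens) (x : PU E L p U) : D K (p + 1) U (D K p U x) = 0 := by
  rw [D_apply, D_apply, AddEquiv.symm_apply_apply, kd_kd, map_zero]

/-- Restriction of `PU`. -/
noncomputable def rP (p : ℕ) {U V : X.affineOpens} (h : V.1 ≤ U.1) : PU E L p U →+ PU E L p V :=
  ((lo K p V).toLinearMap.toAddMonoidHom.comp (res (K.term p) h)).comp
    (lo K p U).symm.toLinearMap.toAddMonoidHom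

theorem rP_apply (p : ℕ) {U V : X.affineOpens} (h : V.1 ≤ U.1) (x : PU E L p U) :
    rP K p h x = lo K p V (res (K.term p) h ((lo K p U).symm x)) := rfl

theorem rP_tmul (p : ℕ) {U V : X.affineOpens} (h : V.1 ≤ U.1) (e : Sec E U.1) (ω : Fin p → Sec L U.1) :
    rP K p h (e ⊗ₜ exteriorPower.ιMulti _ p ω) =
      res E h e ⊗ₜ exteriorPower.ιMulti _ p (fun j => res L h (ω j)) := by
  rw [rP_apply]
  have := K.loc_res p U V h e ω
  refine (congrArg (lo K p V) this).trans ?_
  exact (lo K p V).apply_symm_apply _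

theorem rP_smul (p : ℕ) {U V : X.affineOpens} (h : V.1 ≤ U.1) (b : Γ(X, U.1)) (x : PU E L p U) :
    rP K p h (b • x) = resO X h b • rP K p h x := by
  rw [rP_apply, map_smul, res_smul, map_smul]
  rfl

theorem rP_la (p : ℕ) {U V : X.affineOpens} (h : V.1 ≤ U.1) (x : KS K p U.1) :
    rP K p h (la K p U x) = la K p V (kres K p h x) := by
  rw [rP_apply, la_apply, LinearEquiv.symm_apply_apply, la_apply, io_kres]

theorem rP_D (p : ℕ) {U V : X.affineOpens} (h : V.1 ≤ U.1) (x : PU E L p U) :
    rP K (p + 1) h (D K p U x) = D K p V (rP K p h x) := by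
  obtain ⟨x, rfl⟩ := (la K p U).surjective x
  rw [← la_kd, rP_la, rP_la, ← la_kd, kd_kres]

theorem induction_PU (p : ℕ) (U : X.affineOpens) (C : PU E L p U → Prop) (h0 : C 0)
    (hadd : ∀ x y, C x → C y → C (x + y))
    (ht : ∀ (e : Sec E U.1) (ω : Fin p → Sec L U.1), C (e ⊗ₜ exteriorPower.ιMulti _ p ω))
    (x : PU E L p U) : C x := by
  induction x using TensorProduct.induction_on with
  | zero => exact h0
  | add x y hx hy => exact hadd x y hx hy
  | tmul m η =>
    have hη : η ∈ Submodule.span Γ(X, U.1) (Set.range (exteriorPower.ιMulti Γ(X, U.1) p (M := Sec L U.1))) := by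
      rw [exteriorPower.ιMulti_span]; trivial
    induction hη using Submodule.span_induction generalizing m with
    | mem η hη => obtain ⟨a, rfl⟩ := hη; exact ht m a
    | zero => simpa using h0
    | add η η' _ _ h1 h2 => rw [TensorProduct.tmul_add]; exact hadd _ _ (h1 m) (h2 m)
    | smul b η _ h => rw [TensorProduct.tmul_smul, TensorProduct.smul_tmul']; exact h (b • m)

/-- the connection in degree one -/
noncomputable def na (U : X.affineOpens) (e : Sec E U.1) : PU E L 1 U :=
  lo K 1 U (appS K.iso1.inv U.1 (ConnSh.secApp nabla U.1 e))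

theorem rP_na {U V : X.affineOpens} (h : V.1 ≤ U.1) (e : Sec E U.1) :
    rP K 1 h (na K U e) = na K V (res E h e) := by
  rw [na, na, rP_apply, LinearEquiv.symm_apply_apply, ← appS_res, K922.Tens.secApp_res]

theorem lo_iso1_inv_tmul (U : X.affineOpens) (e : Sec E U.1) (ω : Sec L U.1) :
    lo K 1 U (appS K.iso1.inv U.1 (SecTwist.tmul E L U.1 e ω)) =
      e ⊗ₜ exteriorPower.ιMulti _ 1 (fun _ => ω) := by
  have h := K.loc1 U e ω
  have h2 : SecTwist.tmul E L U.1 e ω = appS K.iso1.hom U.1 ((lo K 1 U).symm (e ⊗ₜ exteriorPower.ιMulti _ 1 ![ω])) := h.symm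
  rw [h2, appS_hom_inv, LinearEquiv.apply_symm_apply]
  congr 2
  ext i
  simp

theorem na_smul (hc : ConnSh.IsConn δ E nabla) (U : X.affineOpens) (b : Γ(X, U.1)) (e : Sec E U.1) :
    na K U (b • e) = b • na K U e + e ⊗ₜ exteriorPower.ιMulti _ 1 (fun _ => K922.DSec.dS δ U.1 b) := by
  rw [na, hc, map_add, map_add]
  have h := lo_iso1_inv_tmul K U e (K922.DSec.dS δ U.1 b)
  have h2 : (lo K 1 U) ((appS K.iso1.inv U.1) (SecTwist.tmul E L U.1 e (δ.app U.1 b))) =
    e ⊗ₜ exteriorPower.ιMulti _ 1 (fun _ => K922.DSec.dS δ U.1 b) := h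
  rw [h2, map_smul, map_smul]
  rfl

theorem na_add (U : X.affineOpens) (e e' : Sec E U.1) : na K U (e + e') = na K U e + na K U e' := by
  rw [na, map_add, map_add, map_add]; rfl

/-- The rule. -/
theorem D_rule (p : ℕ) (U : X.affineOpens) (e : Sec E U.1) (b₀ : Γ(X, U.1)) (b : Fin p → Γ(X, U.1)) :
    D K p U (e ⊗ₜ (b₀ • exteriorPower.ιMulti _ p (fun i => K922.DSec.dS δ U.1 (b i)))) =
      Conn.twedge p (na K U e) (b₀ • exteriorPower.ιMulti _ p (fun i => K922.DSec.dS δ U.1 (b i))) +
        e ⊗ₜ exteriorPower.ιMulti _ (p + 1)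
          (Fin.cons (K922.DSec.dS δ U.1 b₀) (fun i => K922.DSec.dS δ U.1 (b i))) := by
  have h := K.rule p U e b₀ b
  have h2 : (kd K p (p + 1) U.1) ((la K p U).symm (e ⊗ₜ (b₀ • exteriorPower.ιMulti _ p (fun i => K922.DSec.dS δ U.1 (b i))))) =
      (la K (p + 1) U).symm (Conn.twedge p (na K U e) (b₀ • exteriorPower.ιMulti _ p (fun i => K922.DSec.dS δ U.1 (b i))) +
        e ⊗ₜ exteriorPower.ιMulti _ (p + 1)
          (Fin.cons (K922.DSec.dS δ U.1 b₀) (fun i => K922.DSec.dS δ U.1 (b i)))) := h
  rw [D_apply, h2, AddEquiv.apply_symm_apply]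

end K913.CxLoc
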