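import Groth.Agent.LogNCD.K913.CxLoc

/-!
# The logarithmic differential structure on the sections over an affine open

From an affine `V ≤ U` over which the receptacle is generated by exact forms and such that restriction to `V` is
injective on the terms of the complex, we get the Leibniz rule over `U` and `D (e ⊗ ω_I) = ∇ e ∧ ω_I` for every
family `ω` of one-forms over `U` whose restrictions to `V` are of the form `u δ w` with `u = 1` or `u w = 1`.
-/

set_option autoImplicit false

universe u w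

open CategoryTheory CategoryTheory.Limits AlgebraicGeometry Opposite TopologicalSpace
open scoped TensorProduct
open Groth.Agent.Sga67.Sec

namespace K913.CxStr

open K913.Contr K913.LogDG K913.CxLoc K922.DSec

section ring

variable {B N : Type u} [CommRing B] [AddCommGroup N] [Module B N]

theorem lw_eq_zero_of_mem_span (p : ℕ) (v : Fin p → N) (x : N) (hx : x ∈ Submodule.span B (Set.range v)) :
    lw x p (exteriorPower.ιMulti B p v) = 0 := by
  induction hx using Submodule.span_induction with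
  | mem x hx =>
    obtain ⟨j, rfl⟩ := hx
    rw [lw_ιMulti]
    exact (exteriorPower.ιMulti B (p + 1)).map_eq_zero_of_eq (Fin.cons (v j) v) (i := 0) (j := j.succ)
      (by simp) (by simp [Fin.ext_iff])
  | zero => rw [lw_zero]; rfl
  | add x y _ _ hx hy => rw [lw_add, LinearMap.add_apply, hx, hy, add_zero]
  | smul a x _ hx => rw [lw_smul, LinearMap.smul_apply, hx, smul_zero]

variable (δ : B → N) (hδ : ∀ a b, δ (a * b) = a • δ b + b • δ a)

include hδ in
theorem delta_one : δ 1 = 0 := by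
  have := hδ 1 1
  simpa using this

include hδ in
theorem delta_prod_mem_span {p : ℕ} (s : Finset (Fin p)) (uu ww : Fin p → B)
    (h : ∀ i, uu i = 1 ∨ uu i * ww i = 1) :
    δ (∏ i ∈ s, uu i) ∈ Submodule.span B (Set.range (fun i => δ (ww i))) := by
  have h1 := delta_one δ hδ
  have h2 : ∀ i, δ (uu i) ∈ Submodule.span B (Set.range (fun i => δ (ww i))) := by
    intro i
    rcases h i with h | h
    · rw [h, h1]; exact Submodule.zero_mem _
    · have h3 : uu i • δ (ww i) + ww i • δ (uu i) = 0 := by rw [← hδ, h, h1]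
      have h4 : δ (uu i) = - ((uu i * uu i) • δ (ww i)) := by
        have h5 : uu i • (ww i • δ (uu i)) = δ (uu i) := by rw [smul_smul, h, one_smul]
        rw [← h5, eq_neg_iff_add_eq_zero, mul_smul, ← smul_add, add_comm, h3, smul_zero]
      rw [h4]
      exact Submodule.neg_mem _ (Submodule.smul_mem _ _ (Submodule.subset_span ⟨i, rfl⟩))
  induction s using Finset.induction_on with
  | empty => rw [Finset.prod_empty, h1]; exact Submodule.zero_mem _
  | insert i s hi ih =>
    rw [Finset.prod_insert hi, hδ]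
    exact Submodule.add_mem _ (Submodule.smul_mem _ _ ih) (Submodule.smul_mem _ _ (h2 i))

end ring

variable {X S : Scheme.{u}} {f : X ⟶ S} {L : X.Modules} {δ : OmegaSh.Der f L} {E : X.Modules}
  {nabla : Coh.toAb E ⟶ Coh.toAb (CohB1.tensorMod E L)}
variable (K : ConnSh.Cx δ E nabla) (hc : ConnSh.IsConn δ E nabla)

theorem twedge_ιMulti_one (p : ℕ) (U : X.affineOpens) (e : Sec E U.1) (α : Sec L U.1)
    (η : ↥(⋀[Γ(X, U.1)]^p (Sec L U.1))) :
    Conn.twedge p (e ⊗ₜ[Γ(X, U.1)] exteriorPower.ιMulti _ 1 (fun _ => α)) η = e ⊗ₜ lw α p η := by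
  rw [twedge_eq, exteriorPower.oneEquiv_ιMulti]

section gen

variable {V : X.affineOpens} (hgen : Submodule.span Γ(X, V.1) (Set.range (fun b : Γ(X, V.1) => dS δ V.1 b)) = ⊤)

/-- closedness of exact monomials -/
theorem D_exact (p : ℕ) (V : X.affineOpens) (e : Sec E V.1) (b : Fin p → Γ(X, V.1)) :
    D K p V (e ⊗ₜ exteriorPower.ιMulti _ p (fun i => dS δ V.1 (b i))) =
      Conn.twedge p (na K V e) (exteriorPower.ιMulti _ p (fun i => dS δ V.1 (b i))) := by
  have h := D_rule K p V e 1 b
  rw [one_smul, dS_one] at h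
  rw [h]
  have h2 : exteriorPower.ιMulti Γ(X, V.1) (p + 1) (Fin.cons (0 : Sec L V.1) (fun i => dS δ V.1 (b i))) = 0 := by
    rw [← lw_ιMulti, lw_zero]; rfl
  rw [h2, TensorProduct.tmul_zero, add_zero]

include hgen in
theorem induction_gen (p : ℕ) (C : PU E L p V → Prop) (h0 : C 0)
    (hadd : ∀ x y, C x → C y → C (x + y))
    (ht : ∀ (e : Sec E V.1) (b : Fin p → Γ(X, V.1)),
      C (e ⊗ₜ exteriorPower.ιMulti _ p (fun i => dS δ V.1 (b i)))) (x : PU E L p V) : C x := by
  refine LogDG.Str.induction_tmul (B := Γ(X, V.1)) (N := Sec L V.1) (M := Sec E V.1)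
    (ω := fun b : Γ(X, V.1) => dS δ V.1 b) hgen p C h0 hadd ?_ x
  intro m i
  exact ht m i

include hc hgen in
/-- Leibniz over `V` -/
theorem D_smul_gen (p : ℕ) (c : Γ(X, V.1)) (x : PU E L p V) :
    D K p V (c • x) = c • D K p V x + lwP (Sec E V.1) (dS δ V.1 c) p x := by
  refine induction_gen (δ := δ) hgen p
    (fun x => D K p V (c • x) = c • D K p V x + lwP (Sec E V.1) (dS δ V.1 c) p x) ?_ ?_ ?_ x
  · simp
  · intro x y hx hy
    rw [smul_add, map_add, map_add, map_add, hx, hy, smul_add]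
    abel
  · intro e b
    rw [TensorProduct.smul_tmul', D_exact, D_exact, na_smul K hc, map_add, LinearMap.add_apply, map_smul,
      twedge_ιMulti_one, lwP_tmul]
    rfl

/-- closedness of monomials in `u δ w` -/
theorem D_closed_gen (p : ℕ) (V : X.affineOpens) (e : Sec E V.1) (uu ww : Fin p → Γ(X, V.1))
    (h : ∀ i, uu i = 1 ∨ uu i * ww i = 1) :
    D K p V (e ⊗ₜ exteriorPower.ιMulti _ p (fun i => uu i • dS δ V.1 (ww i))) =
      Conn.twedge p (na K V e) (exteriorPower.ιMulti _ p (fun i => uu i • dS δ V.1 (ww i))) := by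
  have h1 : exteriorPower.ιMulti Γ(X, V.1) p (fun i => uu i • dS δ V.1 (ww i)) =
      (∏ i, uu i) • exteriorPower.ιMulti Γ(X, V.1) p (fun i => dS δ V.1 (ww i)) :=
    (exteriorPower.ιMulti Γ(X, V.1) p).map_smul_univ uu _
  rw [h1, D_rule]
  have h2 : exteriorPower.ιMulti Γ(X, V.1) (p + 1)
      (Fin.cons (dS δ V.1 (∏ i, uu i)) (fun i => dS δ V.1 (ww i))) = 0 := by
    rw [← lw_ιMulti]
    apply lw_eq_zero_of_mem_span
    exact delta_prod_mem_span (B := Γ(X, V.1)) (N := Sec L V.1) (fun b => dS δ V.1 b)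
      (dS_mul δ V.1) Finset.univ uu ww h
  rw [h2, TensorProduct.tmul_zero, add_zero]

end gen

section restr

variable {U V : X.affineOpens} (h : V.1 ≤ U.1)

theorem rP_lwP (p : ℕ) (α : Sec L U.1) (x : PU E L p U) :
    rP K (p + 1) h (lwP (Sec E U.1) α p x) = lwP (Sec E V.1) (res L h α) p (rP K p h x) := by
  refine induction_PU p U (fun x => rP K (p + 1) h (lwP (Sec E U.1) α p x) =
    lwP (Sec E V.1) (res L h α) p (rP K p h x)) ?_ ?_ ?_ x
  · simp
  · intro x y hx hy
    simp only [map_add, hx, hy]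
  · intro e ω
    rw [lwP_tmul, lw_ιMulti, rP_tmul, rP_tmul, lwP_tmul, lw_ιMulti]
    congr 2
    funext j
    refine Fin.cases ?_ (fun j => ?_) j <;> simp

theorem rP_twedge (p : ℕ) (a : PU E L 1 U) (v : Fin p → Sec L U.1) :
    rP K (p + 1) h (Conn.twedge p a (exteriorPower.ιMulti _ p v)) =
      Conn.twedge p (rP K 1 h a) (exteriorPower.ιMulti _ p (fun j => res L h (v j))) := by
  refine induction_PU 1 U (fun a => rP K (p + 1) h (Conn.twedge p a (exteriorPower.ιMulti _ p v)) =
      Conn.twedge p (rP K 1 h a) (exteriorPower.ιMulti _ p (fun j => res L h (v j)))) ?_ ?_ ?_ a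
  · simp
  · intro x y hx hy
    simp only [map_add, LinearMap.add_apply, hx, hy]
  · intro e ω
    have h1 : ω = fun _ => ω 0 := by ext i; congr 1; exact Subsingleton.elim _ _
    rw [h1, twedge_ιMulti_one, lw_ιMulti, rP_tmul, rP_tmul, twedge_ιMulti_one, lw_ιMulti]
    congr 2
    funext j
    refine Fin.cases ?_ (fun j => ?_) j <;> simp

variable (hgen : Submodule.span Γ(X, V.1) (Set.range (fun b : Γ(X, V.1) => dS δ V.1 b)) = ⊤)
variable (hinj : ∀ p, Function.Injective (rP K p h))

include hc hgen hinj in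
theorem D_smul (p : ℕ) (c : Γ(X, U.1)) (x : PU E L p U) :
    D K p U (c • x) = c • D K p U x + lwP (Sec E U.1) (dS δ U.1 c) p x := by
  apply hinj
  rw [rP_D, rP_smul, D_smul_gen K hc hgen, map_add, rP_smul, rP_D, rP_lwP]
  congr 2
  exact congrArg (fun α => lwP (Sec E V.1) α p) (dS_res δ h c).symm

include hinj in
theorem D_closed (p : ℕ) (e : Sec E U.1) (ω : Fin p → Sec L U.1)
    (hω : ∀ i, ∃ uu ww : Γ(X, V.1), (uu = 1 ∨ uu * ww = 1) ∧ res L h (ω i) = uu • dS δ V.1 ww) :
    D K p U (e ⊗ₜ exteriorPower.ιMulti _ p ω) = Conn.twedge p (na K U e) (exteriorPower.ιMulti _ p ω) := by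
  choose uu ww h1 h2 using hω
  apply hinj
  rw [rP_D, rP_tmul, rP_twedge, rP_na]
  have h3 : (fun j => res L h (ω j)) = fun j => uu j • dS δ V.1 (ww j) := funext h2
  rw [h3]
  exact D_closed_gen K p V _ uu ww h1

/-- The logarithmic differential structure over `U`. -/
noncomputable def str {κ : Type w} (ω : κ → Sec L U.1)
    (hω : ∀ i, ∃ uu ww : Γ(X, V.1), (uu = 1 ∨ uu * ww = 1) ∧ res L h (ω i) = uu • dS δ V.1 ww) :
    LogDG.Str (B := Γ(X, U.1)) (N := Sec L U.1) (Sec E U.1) (fun b : Γ(X, U.1) => dS δ U.1 b) ω where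
  D p := D K p U
  DD p x := D_D K p U x
  leib p b x := D_smul K hc h hgen hinj p b x
  na e := na K U e
  closed p m i := D_closed K h hinj p m (ω ∘ i) (fun j => hω (i j))

end restr

end K913.CxStr
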