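import Groth.Agent.LogNCD.K913.E1Tools

/-!
# Consequences of the `E_1`-degeneration for sheaf cohomology

Here `K`, `L` are complexes of abelian sheaves in degrees `≥ 0` on a site with terminal object `U`.
-/

set_option autoImplicit false

universe w u

open CategoryTheory CategoryTheory.Limits Opposite E1Deg

namespace K913.E1Sheaf

open K853.HTExact K853.SigmaSES K853.SheafHT K913.E1Tools

variable {C : Type u} [SmallCategory C] {J : GrothendieckTopology C}
  [HasDerivedCategory.{w} (Sheaf J AddCommGrpCat.{u})] {U : C} (hU : IsTerminal U)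

/-- `H_U^a(F[-i]) ≃ H^b(F)`, `i + b = a`. -/
noncomputable def eq (F : Sheaf J AddCommGrpCat.{u}) (i a : ℤ) (b : ℕ) (h : i + b = a) :
    HT (CohCx.freeSheaf J U) ((HomologicalComplex.single _ (ComplexShape.up ℤ) i).obj F) a ≃+ Sheaf.H F b :=
  (HTsingleEquiv.{u} _ F i a b h).trans (extCongrLeft (freeSheafIsoConstant J hU) F b)

theorem eq_map {F G : Sheaf J AddCommGrpCat.{u}} (ψ : F ⟶ G) (i a : ℤ) (b : ℕ) (h : i + b = a)
    (x : HT (CohCx.freeSheaf J U) ((HomologicalComplex.single _ (ComplexShape.up ℤ) i).obj F) a) :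
    eq hU G i a b h (HTmap _ ((HomologicalComplex.single _ (ComplexShape.up ℤ) i).map ψ) a x) =
      Sheaf.H.map ψ b (eq hU F i a b h x) := by
  change extCongrLeft _ G b (HTsingleEquiv.{u} _ G i a b h _) = _
  rw [HTsingleEquiv_naturality, Sheaf.H.map_apply]
  exact (Abelian.Ext.comp_assoc_of_third_deg_zero (Abelian.Ext.mk₀ (freeSheafIsoConstant J hU).inv)
    (HTsingleEquiv.{u} _ F i a b h x) (Abelian.Ext.mk₀ ψ) (zero_add b)).symm

include hU in
theorem surjective_Hmap {F G : Sheaf J AddCommGrpCat.{u}} (ψ : F ⟶ G) (i a : ℤ) (b : ℕ) (h : i + b = a)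
    (hs : Function.Surjective
      (HTmap (CohCx.freeSheaf J U) ((HomologicalComplex.single _ (ComplexShape.up ℤ) i).map ψ) a)) :
    Function.Surjective (Sheaf.H.map ψ b) := by
  intro y
  obtain ⟨y, rfl⟩ := (eq hU G i a b h).surjective y
  obtain ⟨x, rfl⟩ := hs y
  exact ⟨eq hU F i a b h x, (eq_map hU ψ i a b h x).symm⟩

include hU in
theorem injective_Hmap {F G : Sheaf J AddCommGrpCat.{u}} (ψ : F ⟶ G) (i a : ℤ) (b : ℕ) (h : i + b = a)
    (hs : Function.Injective
      (HTmap (CohCx.freeSheaf J U) ((HomologicalComplex.single _ (ComplexShape.up ℤ) i).map ψ) a)) :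
    Function.Injective (Sheaf.H.map ψ b) := by
  intro x y hxy
  obtain ⟨x, rfl⟩ := (eq hU F i a b h).surjective x
  obtain ⟨y, rfl⟩ := (eq hU F i a b h).surjective y
  rw [← eq_map, ← eq_map] at hxy
  rw [hs ((eq hU G i a b h).injective hxy)]

omit [HasDerivedCategory.{w} (Sheaf J AddCommGrpCat.{u})] in
/-- a complex in degrees `≥ 0` as a `ℤ`-indexed complex -/
noncomputable abbrev ext (K : CochainComplex (Sheaf J AddCommGrpCat.{u}) ℕ) :
    CochainComplex (Sheaf J AddCommGrpCat.{u}) ℤ :=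
  K.extend ComplexShape.embeddingUpNat

variable {K L : CochainComplex (Sheaf J AddCommGrpCat.{u}) ℕ} (φ : K ⟶ L)

omit [HasDerivedCategory.{w} (Sheaf J AddCommGrpCat.{u})] in
theorem isZero_ext_neg (K : CochainComplex (Sheaf J AddCommGrpCat.{u}) ℕ) (m : ℤ) (h : m < 0) :
    IsZero ((ext K).X m) :=
  K.isZero_extend_X ComplexShape.embeddingUpNat m (fun i hi => by
    simp only [ComplexShape.embeddingUpNat_f] at hi
    omega)

omit [HasDerivedCategory.{w} (Sheaf J AddCommGrpCat.{u})] in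
/-- the terms of the extension -/
noncomputable def eX (K : CochainComplex (Sheaf J AddCommGrpCat.{u}) ℕ) (n : ℕ) : (ext K).X (n : ℤ) ≅ K.X n :=
  K.extendXIso ComplexShape.embeddingUpNat (ComplexShape.embeddingUpNat_f n)

omit [HasDerivedCategory.{w} (Sheaf J AddCommGrpCat.{u})] in
theorem isZero_ext_gt (K : CochainComplex (Sheaf J AddCommGrpCat.{u}) ℕ) (n : ℕ)
    (h : ∀ m : ℕ, n < m → IsZero (K.X m)) (m : ℤ) (hm : (n : ℤ) < m) : IsZero ((ext K).X m) := by
  lift m to ℕ using by omega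
  exact (h m (by omega)).of_iso (eX K m)

omit [HasDerivedCategory.{w} (Sheaf J AddCommGrpCat.{u})] in
theorem eX_map (n : ℕ) : (HomologicalComplex.extendMap φ ComplexShape.embeddingUpNat).f (n : ℤ) =
    (eX K n).hom ≫ φ.f n ≫ (eX L n).inv :=
  HomologicalComplex.extendMap_f φ ComplexShape.embeddingUpNat (ComplexShape.embeddingUpNat_f n)

omit [HasDerivedCategory.{w} (Sheaf J AddCommGrpCat.{u})] in
theorem Hmap_comp_apply {F G H : Sheaf J AddCommGrpCat.{u}} (f : F ⟶ G) (g : G ⟶ H) (b : ℕ) (x : Sheaf.H F b) :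
    Sheaf.H.map (f ≫ g) b x = Sheaf.H.map g b (Sheaf.H.map f b x) := by
  simp only [Sheaf.H.map_apply, Abelian.Ext.comp_assoc_of_third_deg_zero, Abelian.Ext.mk₀_comp_mk₀]

omit [HasDerivedCategory.{w} (Sheaf J AddCommGrpCat.{u})] in
theorem bijective_Hmap_iso {F G : Sheaf J AddCommGrpCat.{u}} (e : F ≅ G) (b : ℕ) :
    Function.Bijective (Sheaf.H.map e.hom b) := by
  refine Function.bijective_iff_has_inverse.2 ⟨Sheaf.H.map e.inv b, fun x => ?_, fun x => ?_⟩
  · rw [← Hmap_comp_apply, e.hom_inv_id, Sheaf.H.map_id_apply]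
  · rw [← Hmap_comp_apply, e.inv_hom_id, Sheaf.H.map_id_apply]

omit [HasDerivedCategory.{w} (Sheaf J AddCommGrpCat.{u})] in
theorem surjective_Hmap_of_iso {F G F' G' : Sheaf J AddCommGrpCat.{u}} {f : F ⟶ G} {f' : F' ⟶ G'}
    (e : F ≅ F') (e' : G ≅ G') (h : f = e.hom ≫ f' ≫ e'.inv) (b : ℕ)
    (hs : Function.Surjective (Sheaf.H.map f b)) : Function.Surjective (Sheaf.H.map f' b) := by
  intro y
  obtain ⟨x, hx⟩ := hs (Sheaf.H.map e'.inv b y)
  refine ⟨Sheaf.H.map e.hom b x, ?_⟩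
  apply (bijective_Hmap_iso e'.symm b).1
  change Sheaf.H.map e'.inv b _ = Sheaf.H.map e'.inv b _
  rw [← hx, h, Hmap_comp_apply, Hmap_comp_apply]

omit [HasDerivedCategory.{w} (Sheaf J AddCommGrpCat.{u})] in
theorem injective_Hmap_of_iso {F G F' G' : Sheaf J AddCommGrpCat.{u}} {f : F ⟶ G} {f' : F' ⟶ G'}
    (e : F ≅ F') (e' : G ≅ G') (h : f = e.hom ≫ f' ≫ e'.inv) (b : ℕ)
    (hs : Function.Injective (Sheaf.H.map f b)) : Function.Injective (Sheaf.H.map f' b) := by
  intro x y hxy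
  obtain ⟨x, rfl⟩ := (bijective_Hmap_iso e b).2 x
  obtain ⟨y, rfl⟩ := (bijective_Hmap_iso e b).2 y
  congr 1
  apply hs
  rw [h, Hmap_comp_apply, Hmap_comp_apply, Hmap_comp_apply, Hmap_comp_apply, hxy]

include hU in
/-- Surjectivity in degree zero. -/
theorem surjective_H [QuasiIso φ] (hdeg : HyperDegenerates (ext L) U) (b : ℕ) :
    Function.Surjective (Sheaf.H.map (φ.f 0) b) := by
  have h1 := surjective_zero (CohCx.freeSheaf J U)
    (HomologicalComplex.extendMap φ ComplexShape.embeddingUpNat) (b : ℤ) (isZero_ext_neg K)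
    (isZero_ext_neg L) hdeg
  have h2 := surjective_Hmap hU _ 0 (b : ℤ) b (by simp) h1
  exact surjective_Hmap_of_iso (eX K 0) (eX L 0) (eX_map φ 0) b h2

include hU in
/-- Injectivity in the top degree. -/
theorem injective_H [QuasiIso φ] (n : ℕ) (hK : ∀ m : ℕ, n < m → IsZero (K.X m))
    (hL : ∀ m : ℕ, n < m → IsZero (L.X m)) (hdeg : HyperDegenerates (ext K) U) (b : ℕ) :
    Function.Injective (Sheaf.H.map (φ.f n) b) := by
  have h1 := injective_top (CohCx.freeSheaf J U)
    (HomologicalComplex.extendMap φ ComplexShape.embeddingUpNat) ((n : ℤ) + b) n (isZero_ext_neg K)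
    (isZero_ext_gt K n hK) (isZero_ext_gt L n hL) hdeg
  have h2 := injective_Hmap hU _ n ((n : ℤ) + b) b rfl h1
  exact injective_Hmap_of_iso (eX K n) (eX L n) (eX_map φ n) b h2

include hU in
/-- Vanishing of the cohomology of the terms. -/
theorem subsingleton_H (hdeg : HyperDegenerates (ext K) U) (i b : ℕ)
    (h : Subsingleton (HT (CohCx.freeSheaf J U) (ext K) ((i : ℤ) + b))) :
    Subsingleton (Sheaf.H (K.X i) b) := by
  have h1 := subsingleton_gr (CohCx.freeSheaf J U) ((i : ℤ) + b) (ext K) (isZero_ext_neg K) hdeg h i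
  have h2 : Subsingleton (Sheaf.H ((ext K).X (i : ℤ)) b) :=
    (eq hU ((ext K).X (i : ℤ)) i ((i : ℤ) + b) b rfl).symm.toEquiv.subsingleton
  exact (bijective_Hmap_iso (eX K i) b).2.subsingleton

include hU in
/-- Vanishing of the hypercohomology from the cohomology of the terms. -/
theorem subsingleton_HT_ext (K : CochainComplex (Sheaf J AddCommGrpCat.{u}) ℕ) (n : ℤ)
    (h : ∀ p q : ℕ, (p : ℤ) + q = n → Subsingleton (Sheaf.H (K.X p) q)) :
    Subsingleton (HT (CohCx.freeSheaf J U) (ext K) n) :=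
  subsingleton_HT_of_ext.{u} (CohCx.freeSheaf J U) _ (freeSheafIsoConstant J hU) (ext K) K.X (eX K)
    (isZero_ext_neg K) n h

/-- Invariance of the hypercohomology under quasi-isomorphisms. -/
theorem subsingleton_HT_iff [QuasiIso φ] (n : ℤ) :
    Subsingleton (HT (CohCx.freeSheaf J U) (ext K) n) ↔ Subsingleton (HT (CohCx.freeSheaf J U) (ext L) n) := by
  have h1 := HTmap_bijective_of_quasiIso (CohCx.freeSheaf J U)
    (HomologicalComplex.extendMap φ ComplexShape.embeddingUpNat) n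
  exact (Equiv.ofBijective _ h1).subsingleton_congr

end K913.E1Sheaf
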