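import Groth.Agent.DeRhamSh.K853.SheafHT

/-!
# Consequences of the `E_1`-degeneration of the stupid filtration

For a complex `K` of `A` in degrees `≥ 0` degenerating at `E_1` for `H_T`:
* `surjective_zero`: a quasi-isomorphism `K' → K` (with `K'` in degrees `≥ 0`) is surjective on
  `H_T(K'^0) → H_T(K^0)`;
* `injective_top`: a quasi-isomorphism `K → L`, both in degrees `[0, n]`, is injective on `H_T(K^n) → H_T(L^n)`;
* `subsingleton_gr`: if `H_T^a(K) = 0` then `H_T^a(K^i[-i]) = 0` for all `i ≥ 0`.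
-/

set_option autoImplicit false

universe w' w v u

open CategoryTheory CategoryTheory.Limits CategoryTheory.Pretriangulated Opposite E1Deg

namespace K913.E1Tools

open K853.HTExact K853.SigmaSES K853.SheafHT

variable {A : Type u} [Category.{v} A] [Abelian A]

section nat

variable {K L : CochainComplex A ℤ} (φ : K ⟶ L) (i : ℤ)

/-- functoriality of the stupid truncation -/
noncomputable abbrev sg : sigmaGE K i ⟶ sigmaGE L i := HomologicalComplex.stupidTruncMap φ (emb i)

theorem sg_ι : sg φ i ≫ sigmaGEι L i = sigmaGEι K i ≫ φ := by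
  ext m
  rw [HomologicalComplex.comp_f, HomologicalComplex.comp_f]
  by_cases hm : i ≤ m
  · have hn : (emb i).f (m - i).toNat = m := by
      simp only [ComplexShape.embeddingUpIntGE_f]
      omega
    rw [sigmaGEι_f_eq K i hn, sigmaGEι_f_eq L i hn]
    exact HomologicalComplex.stupidTruncMap_stupidTruncXIso_hom φ (emb i) hn
  · exact (isZero_sigmaGE_X K (by omega)).eq_of_src _ _

theorem sg_π : sg φ i ≫ sigmaGEπ L i =
    sigmaGEπ K i ≫ (HomologicalComplex.single A (ComplexShape.up ℤ) i).map (φ.f i) := by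
  apply HomologicalComplex.to_single_hom_ext
  rw [HomologicalComplex.comp_f, HomologicalComplex.comp_f, sigmaGEπ_f, sigmaGEπ_f,
    HomologicalComplex.single_map_f_self, ← Category.assoc]
  rw [HomologicalComplex.stupidTruncMap_stupidTruncXIso_hom φ (emb i) (emb_f_zero i)]
  simp

end nat

variable [HasDerivedCategory.{w} A] (T : A)

section main

variable {K L : CochainComplex A ℤ} (φ : K ⟶ L) (a : ℤ)

theorem bijective_ι_zero (K : CochainComplex A ℤ) (hK : ∀ m : ℤ, m < 0 → IsZero (K.X m)) :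
    Function.Bijective (HTmap T (sigmaGEι K 0) a) := by
  have := isIso_sigmaGEι K 0 hK
  exact (HTequiv T (asIso (sigmaGEι K 0)) a).bijective

/-- `H_T^a(σ_{≥ i} K) → H_T^a(K)` is injective. -/
theorem injective_ι (K : CochainComplex A ℤ) (hK : ∀ m : ℤ, m < 0 → IsZero (K.X m))
    (hdeg : Degenerates T K) (i : ℕ) :
    Function.Injective (HTmap T (sigmaGEι K (i : ℤ)) a) := by
  induction i with
  | zero => exact (bijective_ι_zero T a K hK).1
  | succ i ih =>
    have h1 : ∀ x, HTmap T (sigmaGEι K ((i : ℤ) + 1)) a x =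
        HTmap T (sigmaGEι K (i : ℤ)) a (HTmap T (sigmaGEιSucc K (i : ℤ)) a x) := by
      intro x
      rw [← HTmap_comp, sigmaGEιSucc_comp_ι]
    have h2 : Function.Injective (HTmap T (sigmaGEι K ((i : ℤ) + 1)) a) := by
      intro x y hxy
      rw [h1, h1] at hxy
      exact (hdeg a i).1 (ih hxy)
    push_cast
    exact h2

/-- Surjectivity in degree zero. -/
theorem surjective_zero [QuasiIso φ] (hK : ∀ m : ℤ, m < 0 → IsZero (K.X m))
    (hL : ∀ m : ℤ, m < 0 → IsZero (L.X m)) (hdeg : Degenerates T L) :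
    Function.Surjective
      (HTmap T ((HomologicalComplex.single A (ComplexShape.up ℤ) 0).map (φ.f 0)) a) := by
  intro y
  obtain ⟨y₁, rfl⟩ := (hdeg a 0).2 y
  obtain ⟨x₂, hx₂⟩ := (HTmap_bijective_of_quasiIso T φ a).2 (HTmap T (sigmaGEι L 0) a y₁)
  obtain ⟨x₁, rfl⟩ := (bijective_ι_zero T a K hK).2 x₂
  refine ⟨HTmap T (sigmaGEπ K 0) a x₁, ?_⟩
  have h1 : y₁ = HTmap T (sg φ 0) a x₁ := by
    apply (bijective_ι_zero T a L hL).1
    rw [← hx₂, ← HTmap_comp, ← HTmap_comp, sg_ι]
  rw [h1, ← HTmap_comp, ← HTmap_comp, sg_π]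

theorem bijective_π_top (K : CochainComplex A ℤ) (n : ℤ) (hK : ∀ m : ℤ, n < m → IsZero (K.X m)) :
    Function.Bijective (HTmap T (sigmaGEπ K n) a) := by
  have hz : IsZero (sigmaGE K (n + 1)) := by
    rw [IsZero.iff_id_eq_zero]
    ext m
    by_cases hm : m < n + 1
    · exact (isZero_sigmaGE_X K hm).eq_of_src _ _
    · have hn : (emb (n + 1)).f (m - (n + 1)).toNat = m := by
        simp only [ComplexShape.embeddingUpIntGE_f]
        omega
      have : IsZero ((sigmaGE K (n + 1)).X m) := (hK m (by omega)).of_iso (K.stupidTruncXIso (emb (n + 1)) hn)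
      exact this.eq_of_src _ _
  have hs : ∀ b : ℤ, Subsingleton (HT T (sigmaGE K (n + 1)) b) := by
    intro b
    refine ⟨fun x y => ?_⟩
    have key : ∀ z : HT T (sigmaGE K (n + 1)) b, z = 0 := by
      intro z
      rw [← HTmap_id T _ b z, hz.eq_of_src (𝟙 (sigmaGE K (n + 1))) 0]
      exact K853.HTExact.HTmap_zero T b z
    rw [key x, key y]
  exact HTmap_π_bijective T K a n (hs a) (hs (a + 1))

/-- Injectivity in the top degree. -/
theorem injective_top [QuasiIso φ] (n : ℕ) (hK : ∀ m : ℤ, m < 0 → IsZero (K.X m))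
    (hKn : ∀ m : ℤ, n < m → IsZero (K.X m)) (hLn : ∀ m : ℤ, n < m → IsZero (L.X m))
    (hdeg : Degenerates T K) :
    Function.Injective
      (HTmap T ((HomologicalComplex.single A (ComplexShape.up ℤ) (n : ℤ)).map (φ.f n)) a) := by
  rw [injective_iff_map_eq_zero]
  intro x hx
  obtain ⟨x₁, rfl⟩ := (bijective_π_top T a K n hKn).2 x
  have h1 : HTmap T (sigmaGEπ L n) a (HTmap T (sg φ n) a x₁) = 0 := by
    rw [← HTmap_comp, sg_π, HTmap_comp]
    exact hx
  have h2 : HTmap T (sg φ n) a x₁ = 0 := by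
    apply (bijective_π_top T a L n hLn).1
    rw [h1, map_zero]
  have h3 : HTmap T φ a (HTmap T (sigmaGEι K n) a x₁) = 0 := by
    rw [← HTmap_comp, ← sg_ι, HTmap_comp, h2, map_zero]
  have h4 : HTmap T (sigmaGEι K n) a x₁ = 0 := by
    apply (HTmap_bijective_of_quasiIso T φ a).1
    rw [h3, map_zero]
  have h5 : x₁ = 0 := by
    apply injective_ι T a K hK hdeg n
    rw [h4, map_zero]
  rw [h5, map_zero]

/-- Vanishing of the graded pieces. -/
theorem subsingleton_gr (K : CochainComplex A ℤ) (hK : ∀ m : ℤ, m < 0 → IsZero (K.X m))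
    (hdeg : Degenerates T K) (h : Subsingleton (HT T K a)) (i : ℕ) :
    Subsingleton (HT T ((HomologicalComplex.single A (ComplexShape.up ℤ) (i : ℤ)).obj (K.X i)) a) := by
  have h1 : Subsingleton (HT T (sigmaGE K (i : ℤ)) a) := (injective_ι T a K hK hdeg i).subsingleton
  exact (hdeg a i).2.subsingleton

end main

end K913.E1Tools
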