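import Groth.Agent.LogNCD.K913.QisBasis

/-!
# Maps of abelian sheaves checked on a basis; subcomplexes
-/

set_option autoImplicit false
universe v u

open CategoryTheory CategoryTheory.Limits Opposite TopologicalSpace

namespace K913.Factor

open K913.QisBasis

section top

variable {T : Type u} [TopologicalSpace T]

theorem eq_of_basis (F : Sheaf (Opens.grothendieckTopology T) AddCommGrpCat.{u}) (𝓑 : Set (Opens T))
    (hB : ∀ (U : Opens T) (x : T), x ∈ U → ∃ V ∈ 𝓑, x ∈ V ∧ V ≤ U) {U : Opens T} (s t : F.obj.obj (op U))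
    (h : ∀ V ∈ 𝓑, ∀ f : V ⟶ U, F.obj.map f.op s = F.obj.map f.op t) : s = t := by
  obtain ⟨S, hS, hS'⟩ := cover_of_basis 𝓑 hB U (fun V f => F.obj.map f.op s = F.obj.map f.op t) h
    (fun V W f g hf => by
      rw [op_comp, F.obj.map_comp]
      exact congrArg (F.obj.map g.op) hf)
  exact Sheaf.isSeparated F U S hS s t (fun V f hf => hS' f hf)

theorem hom_ext_of_basis {F G : Sheaf (Opens.grothendieckTopology T) AddCommGrpCat.{u}} (𝓑 : Set (Opens T))
    (hB : ∀ (U : Opens T) (x : T), x ∈ U → ∃ V ∈ 𝓑, x ∈ V ∧ V ≤ U) (a b : F ⟶ G)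
    (h : ∀ V ∈ 𝓑, ∀ s : F.obj.obj (op V), a.hom.app (op V) s = b.hom.app (op V) s) : a = b := by
  apply Sheaf.hom_ext
  apply NatTrans.ext
  funext U
  apply ConcreteCategory.hom_ext
  intro s
  refine eq_of_basis G 𝓑 hB _ _ ?_
  intro V hV f
  have h1 := ConcreteCategory.congr_hom (a.hom.naturality f.op) s
  have h2 := ConcreteCategory.congr_hom (b.hom.naturality f.op) s
  refine h1.symm.trans ((h V hV _).trans h2)

theorem exists_factor {F G H : Sheaf (Opens.grothendieckTopology T) AddCommGrpCat.{u}} (𝓑 : Set (Opens T))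
    (hB : ∀ (U : Opens T) (x : T), x ∈ U → ∃ V ∈ 𝓑, x ∈ V ∧ V ≤ U) (a : F ⟶ H) (v : G ⟶ H) [Mono v]
    (h : ∀ V ∈ 𝓑, ∀ s : F.obj.obj (op V), ∃ t : G.obj.obj (op V), v.hom.app (op V) t = a.hom.app (op V) s) :
    ∃ w : F ⟶ G, w ≫ v = a := by
  have h1 : a ≫ cokernel.π v = 0 := by
    refine hom_ext_of_basis 𝓑 hB _ _ ?_
    intro V hV s
    obtain ⟨t, ht⟩ := h V hV s
    have h2 := congrArg (fun ψ => ψ.hom.app (op V)) (cokernel.condition v)
    have h3 := ConcreteCategory.congr_hom h2 t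
    change (cokernel.π v).hom.app (op V) (a.hom.app (op V) s) = _
    rw [← ht]
    exact h3
  exact ⟨Abelian.monoLift v a h1, Abelian.monoLift_comp v a h1⟩

theorem mono_of_basis {F G : Sheaf (Opens.grothendieckTopology T) AddCommGrpCat.{u}} (𝓑 : Set (Opens T))
    (hB : ∀ (U : Opens T) (x : T), x ∈ U → ∃ V ∈ 𝓑, x ∈ V ∧ V ≤ U) (a : F ⟶ G)
    (h : ∀ V ∈ 𝓑, ∀ s : F.obj.obj (op V), a.hom.app (op V) s = 0 → s = 0) : Mono a := by
  refine Preadditive.mono_of_cancel_zero _ fun {H} g hg => ?_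
  refine hom_ext_of_basis 𝓑 hB _ _ ?_
  intro V hV s
  apply h V hV
  have h1 := congrArg (fun ψ => ψ.hom.app (op V)) hg
  exact ConcreteCategory.congr_hom h1 s

end top

section sub

variable {A : Type u} [Category.{v} A] [HasZeroMorphisms A] (C : CochainComplex A ℕ)
  (P : ℕ → A) (v : ∀ p, P p ⟶ C.X p) [hv : ∀ p, Mono (v p)] (w : ∀ p, P p ⟶ P (p + 1))
  (hw : ∀ p, w p ≫ v (p + 1) = v p ≫ C.d p (p + 1))

/-- A subcomplex from degreewise monomorphisms through which the differential factors. -/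
noncomputable def subCx : CochainComplex A ℕ :=
  CochainComplex.of P w (fun p => by
    rw [← cancel_mono (v (p + 2)), Category.assoc, hw (p + 1), ← Category.assoc, hw, Category.assoc,
      C.d_comp_d, comp_zero, zero_comp])

theorem subCx_d (p : ℕ) : (subCx C P v w hw).d p (p + 1) = w p := CochainComplex.of_d _ _ _

/-- The inclusion of the subcomplex. -/
noncomputable def subCxι : subCx C P v w hw ⟶ C where
  f p := v p
  comm' p q hpq := by
    obtain rfl : p + 1 = q := hpq
    rw [subCx_d]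
    exact (hw p).symm

theorem subCxι_f (p : ℕ) : (subCxι C P v w hw).f p = v p := rfl

end sub

end K913.Factor
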