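import Groth.Agent.LogNCD.K922.Univ
import Groth.Agent.LogNCD.K913.Chart

/-!
# Existence of charts of a log module
-/

set_option autoImplicit false

universe u

open CategoryTheory CategoryTheory.Limits AlgebraicGeometry Opposite TopologicalSpace
open Groth.Agent.Sga67.Sec Groth.Agent.Sga67.LocBasis

namespace K913.HasCharts

open K922.DSec K922.Tens K922.Quot K922.Coord K922.Chart K922.LogBasis K913.Chart

variable {X S : Scheme.{u}} {f : X ⟶ S} {Ω' : X.Modules} {d : OmegaSh.Der f Ω'} {r : ℕ}
  {D : Fin r → X.IdealSheafData}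

theorem dS_der (Λ : LogNCD.LogMod d D) (U : X.Opens) (a : Γ(X, U)) :
    dS (LogNCD.der Λ) U a = appS Λ.ι U (dS d U a) := rfl

/-- A chart with a basis of logarithmic forms in the sense of `K922` is one in the sense of `K913.Chart`. -/
noncomputable def ch {Λ : LogNCD.LogMod d D} {U : X.affineOpens} {n : ℕ} (c : Chart f D U.1 n)
    (B : LogBasis Λ c) : Ch Λ U where
  n := n
  g := c.g
  ideal_eq i := by
    have := c.ideal i U le_rfl
    rwa [resO_self] at this
  g_mem i := by
    rw [mem_nonZeroDivisors_iff_right]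
    intro a ha
    have := c.isReg_g i U.1 le_rfl a
    rw [resO_self] at this
    apply this
    rwa [mul_comm]
  ω := B.b
  isLocBasis := B.isLocBasis
  e := c.e
  e_inj := c.inj
  none_one := c.g_none
  ω_some i k h := by
    rw [dS_der]
    exact B.smul_b i k h
  res_self := B.res_b
  res_ne := B.res_b_ne
  ω_other k hk := ⟨c.v k, by rw [dS_der]; exact B.b_none k hk⟩

/-- The log module of a relative normal crossing divisor has charts. -/
theorem hasCharts [Smooth f] (hd : OmegaSh.IsUniversal d) (hD : LogNCD.IsNCD D f) (Λ : LogNCD.LogMod d D) :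
    HasCharts Λ := by
  intro x O hx
  obtain ⟨U, n, c, B, hxU, hU⟩ := exists_logChart (K922.Univ.affUniv hd) hD Λ hx
  exact ⟨U, hxU, hU, ⟨ch c B⟩⟩

theorem isFinLocFree [Smooth f] (hd : OmegaSh.IsUniversal d) (hD : LogNCD.IsNCD D f) (Λ : LogNCD.LogMod d D) :
    FlatMod.IsFinLocFree Λ.L :=
  K922.LogBasis.isFinLocFree (K922.Univ.affUniv hd) hD Λ

end K913.HasCharts
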