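import Groth.Agent.LogNCD.K913.Factor
import Mathlib.Topology.Sheaves.SheafCondition.Sites

/-!
# `j_* j^*` for abelian sheaves on a space, and complexes containing a given one with equality on an open

`J W F = (U ↦ F(W ∩ U))`, with the unit `η : F → J F`.
-/

set_option autoImplicit false
universe v u

open CategoryTheory CategoryTheory.Limits Opposite TopologicalSpace

namespace K913.Jst

open K913.QisBasis K913.Factor

section top

variable {T : Type u} [TopologicalSpace T] (W : Opens T)

/-- intersection with `W` -/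
def cutF : Opens T ⥤ Opens T where
  obj U := W ⊓ U
  map f := homOfLE (inf_le_inf_left W (leOfHom f))

/-- `cutF` as a composite of continuous functors -/
def cutFIso (X : TopCat.{u}) (W : Opens X) : Opens.map W.inclusion' ⋙ W.isOpenEmbedding.isOpenMap.functor ≅ cutF W :=
  NatIso.ofComponents (fun U => eqToIso (by
    apply Opens.ext
    exact Subtype.image_preimage_coe (W : Set X) (U : Set X))) (fun _ => Subsingleton.elim _ _)

theorem isContinuous_cutF (X : TopCat.{u}) (W : Opens X) :
    (cutF W).IsContinuous (Opens.grothendieckTopology X) (Opens.grothendieckTopology X) := by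
  have h2 : W.isOpenEmbedding.isOpenMap.functor.IsContinuous
    (Opens.grothendieckTopology W) (Opens.grothendieckTopology X) := W.isOpenEmbedding.functor_isContinuous
  have h1 : (Opens.map W.inclusion').IsContinuous (Opens.grothendieckTopology X) (Opens.grothendieckTopology W) :=
    Functor.isContinuous_of_coverPreserving (compatiblePreserving_opens_map W.inclusion')
      (coverPreserving_opens_map W.inclusion')
  have h3 := Functor.isContinuous_comp (Opens.map W.inclusion') W.isOpenEmbedding.isOpenMap.functor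
    (Opens.grothendieckTopology X) (Opens.grothendieckTopology W) (Opens.grothendieckTopology X)
  exact Functor.isContinuous_of_iso (cutFIso X W) _ _

instance : (cutF W).IsContinuous (Opens.grothendieckTopology T) (Opens.grothendieckTopology T) :=
  isContinuous_cutF (TopCat.of T) W

/-- `J W F = (U ↦ F(W ∩ U))` -/
noncomputable def J : Sheaf (Opens.grothendieckTopology T) AddCommGrpCat.{u} ⥤
    Sheaf (Opens.grothendieckTopology T) AddCommGrpCat.{u} :=
  (cutF W).sheafPushforwardContinuous AddCommGrpCat.{u} (Opens.grothendieckTopology T)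
    (Opens.grothendieckTopology T)

/-- restriction to `W` -/
noncomputable def η : 𝟭 (Sheaf (Opens.grothendieckTopology T) AddCommGrpCat.{u}) ⟶ J W where
  app F := ⟨{ app := fun U => F.obj.map (homOfLE (inf_le_right : W ⊓ U.unop ≤ U.unop)).op
              naturality := by
                intro U V f
                change F.obj.map f ≫ F.obj.map _ = F.obj.map _ ≫ F.obj.map _
                rw [← F.obj.map_comp, ← F.obj.map_comp]
                congr 1 }⟩
  naturality := by
    intro F G φ
    apply Sheaf.hom_ext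
    apply NatTrans.ext
    funext U
    exact (φ.hom.naturality (homOfLE (inf_le_right : W ⊓ U.unop ≤ U.unop)).op).symm

theorem η_apply (F : Sheaf (Opens.grothendieckTopology T) AddCommGrpCat.{u}) (U : Opens T)
    (s : F.obj.obj (op U)) : ((η W).app F).hom.app (op U) s =
      F.obj.map (homOfLE (inf_le_right : W ⊓ U ≤ U)).op s := rfl

theorem J_map_apply {F G : Sheaf (Opens.grothendieckTopology T) AddCommGrpCat.{u}} (φ : F ⟶ G) (U : Opens T)
    (s : F.obj.obj (op (W ⊓ U))) : ((J W).map φ).hom.app (op U) s = φ.hom.app (op (W ⊓ U)) s := rfl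

theorem isIso_J_map {F G : Sheaf (Opens.grothendieckTopology T) AddCommGrpCat.{u}} (φ : F ⟶ G)
    (h : ∀ V ≤ W, Function.Bijective (φ.hom.app (op V))) : IsIso ((J W).map φ) := by
  have h1 : ∀ U : (Opens T)ᵒᵖ, IsIso (((J W).map φ).hom.app U) := by
    intro U
    rw [ConcreteCategory.isIso_iff_bijective]
    exact h (W ⊓ U.unop) inf_le_left
  have h2 : IsIso ((J W).map φ).hom := NatIso.isIso_of_isIso_app _
  have h3 : IsIso ((sheafToPresheaf (Opens.grothendieckTopology T) AddCommGrpCat.{u}).map ((J W).map φ)) := h2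
  exact isIso_of_reflects_iso _ (sheafToPresheaf (Opens.grothendieckTopology T) AddCommGrpCat.{u})

theorem mono_η (F : Sheaf (Opens.grothendieckTopology T) AddCommGrpCat.{u}) (𝓑 : Set (Opens T))
    (hB : ∀ (U : Opens T) (x : T), x ∈ U → ∃ V ∈ 𝓑, x ∈ V ∧ V ≤ U)
    (h : ∀ V ∈ 𝓑, ∀ s : F.obj.obj (op V), F.obj.map (homOfLE (inf_le_right : W ⊓ V ≤ V)).op s = 0 → s = 0) :
    Mono ((η W).app F) :=
  mono_of_basis 𝓑 hB _ h

variable (C : CochainComplex (Sheaf (Opens.grothendieckTopology T) AddCommGrpCat.{u}) ℕ)
  (B : ℕ → Sheaf (Opens.grothendieckTopology T) AddCommGrpCat.{u}) (κ : ∀ p, C.X p ⟶ B p)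
  [hκ : ∀ p, IsIso ((J W).map (κ p))] [hη : ∀ p, Mono ((η W).app (B p))]
  (w : ∀ p, B p ⟶ B (p + 1))
  (hw : ∀ p, w p ≫ (η W).app (B (p + 1)) =
    (η W).app (B p) ≫ inv ((J W).map (κ p)) ≫ (J W).map (C.d p (p + 1)) ≫ (J W).map (κ (p + 1)))

theorem J_map_zero {F G : Sheaf (Opens.grothendieckTopology T) AddCommGrpCat.{u}} :
    (J W).map (0 : F ⟶ G) = 0 := rfl

/-- A complex containing the given one, with equality on `W`. -/
noncomputable def overCx : CochainComplex (Sheaf (Opens.grothendieckTopology T) AddCommGrpCat.{u}) ℕ :=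
  CochainComplex.of B w (fun p => by
    rw [← cancel_mono ((η W).app (B (p + 2))), Category.assoc, hw (p + 1), ← Category.assoc, hw]
    simp only [Category.assoc, zero_comp]
    rw [IsIso.hom_inv_id_assoc, ← Functor.map_comp_assoc, C.d_comp_d, J_map_zero, zero_comp, comp_zero, comp_zero])

theorem overCx_d (p : ℕ) : (overCx W C B κ w hw).d p (p + 1) = w p := CochainComplex.of_d _ _ _

/-- The inclusion. -/
noncomputable def overCxι : C ⟶ overCx W C B κ w hw where
  f p := κ p
  comm' p q hpq := by
    obtain rfl : p + 1 = q := hpq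
    rw [overCx_d]
    have h1 : κ p ≫ (η W).app (B p) = (η W).app (C.X p) ≫ (J W).map (κ p) := (η W).naturality (κ p)
    have h2 : κ (p + 1) ≫ (η W).app (B (p + 1)) = (η W).app (C.X (p + 1)) ≫ (J W).map (κ (p + 1)) :=
      (η W).naturality (κ (p + 1))
    have h3 : C.d p (p + 1) ≫ (η W).app (C.X (p + 1)) = (η W).app (C.X p) ≫ (J W).map (C.d p (p + 1)) :=
      (η W).naturality (C.d p (p + 1))
    have h4 : (κ p ≫ w p) ≫ (η W).app (B (p + 1)) =
        (C.d p (p + 1) ≫ κ (p + 1)) ≫ (η W).app (B (p + 1)) := by
      rw [Category.assoc, hw, ← Category.assoc, h1, Category.assoc, IsIso.hom_inv_id_assoc, Category.assoc,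
        h2, ← Category.assoc, ← Category.assoc, h3]
    exact (cancel_mono ((η W).app (B (p + 1)))).1 h4

theorem overCxι_f (p : ℕ) : (overCxι W C B κ w hw).f p = κ p := rfl

end top

end K913.Jst
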