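import Groth.Agent.LogNCD.K913.Contr
import Mathlib.LinearAlgebra.TensorProduct.RightExactness

/-!
# Modules with differential over a logarithmic receptacle, and the Lie derivative homotopy

`LogDG δ ω`: a `B`-module `M`, a `B`-module of one-forms `N` with a map `δ : B → N`, additive differentials
`D p : M ⊗ ⋀^p N → M ⊗ ⋀^(p+1) N` with the Leibniz rule and `D (m ⊗ ω_I) = ∇ m ∧ ω_I` for monomials in a
family `ω` of one-forms.

`acyc`: if `θ : N → B` has `θ (δ b) ∈ (t)`, `θ (ω k) ∈ {0, 1}` and `∇_θ` is bijective on `M / t M`, then the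
complex `(M ⊗ ⋀^• N) / t` is acyclic, in the elementary form.
-/

set_option autoImplicit false

open TensorProduct

universe u w

namespace K913.LogDG

open K913.Contr

section basics

variable {B N : Type u} (M : Type u) [CommRing B] [AddCommGroup N] [Module B N]
  [AddCommGroup M] [Module B M]

/-- left wedge with a one-form on `M ⊗ ⋀^p N`. -/
noncomputable def lwP (α : N) (p : ℕ) : M ⊗[B] ↥(⋀[B]^p N) →ₗ[B] M ⊗[B] ↥(⋀[B]^(p + 1) N) :=
  LinearMap.lTensor M (lw α p)

/-- contraction on `M ⊗ ⋀^(p+1) N`. -/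
noncomputable def ctP (θ : Module.Dual B N) (p : ℕ) :
    M ⊗[B] ↥(⋀[B]^(p + 1) N) →ₗ[B] M ⊗[B] ↥(⋀[B]^p N) :=
  LinearMap.lTensor M (contr θ p)

variable {M}

@[simp] theorem lwP_tmul (α : N) (p : ℕ) (m : M) (η : ↥(⋀[B]^p N)) :
    lwP M α p (m ⊗ₜ η) = m ⊗ₜ lw α p η := rfl

@[simp] theorem ctP_tmul (θ : Module.Dual B N) (p : ℕ) (m : M) (η : ↥(⋀[B]^(p + 1) N)) :
    ctP M θ p (m ⊗ₜ η) = m ⊗ₜ contr θ p η := rfl

theorem lwP_add (α β : N) (p : ℕ) : lwP (B := B) M (α + β) p = lwP M α p + lwP M β p := by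
  rw [lwP, lw_add, LinearMap.lTensor_add]; rfl

theorem lwP_smul (b : B) (α : N) (p : ℕ) : lwP M (b • α) p = b • lwP (B := B) M α p := by
  rw [lwP, lw_smul, LinearMap.lTensor_smul]; rfl

theorem ctP_lwP (θ : Module.Dual B N) (p : ℕ) (α : N) (x : M ⊗[B] ↥(⋀[B]^(p + 1) N)) :
    ctP M θ (p + 1) (lwP M α (p + 1) x) = θ α • x - lwP M α p (ctP M θ p x) := by
  induction x using TensorProduct.induction_on with
  | zero => simp
  | tmul m η => simp [contr_lw, tmul_sub, tmul_smul]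
  | add x y hx hy => simp only [map_add, hx, hy, smul_add]; abel

theorem ctP_lwP_zero (θ : Module.Dual B N) (α : N) (x : M ⊗[B] ↥(⋀[B]^0 N)) :
    ctP M θ 0 (lwP M α 0 x) = θ α • x := by
  induction x using TensorProduct.induction_on with
  | zero => simp
  | tmul m η => simp [contr_lw_zero, tmul_smul]
  | add x y hx hy => simp only [map_add, hx, hy, smul_add]

/-- evaluation of a functional on an `M`-valued one-form. -/
noncomputable def ev (θ : Module.Dual B N) : M ⊗[B] ↥(⋀[B]^1 N) →ₗ[B] M :=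
  (TensorProduct.rid B M).toLinearMap ∘ₗ
    LinearMap.lTensor M (θ ∘ₗ (exteriorPower.oneEquiv B N).toLinearMap)

theorem ev_tmul (θ : Module.Dual B N) (m : M) (a : ↥(⋀[B]^1 N)) :
    ev θ (m ⊗ₜ a) = θ (exteriorPower.oneEquiv B N a) • m := by
  simp [ev]

theorem twedge_eq (p : ℕ) (m : M) (a : ↥(⋀[B]^1 N)) (η : ↥(⋀[B]^p N)) :
    Conn.twedge p (m ⊗ₜ[B] a) η = m ⊗ₜ lw (exteriorPower.oneEquiv B N a) p η := by
  rw [Conn.twedge_tmul, lw, LinearEquiv.symm_apply_apply]

theorem ctP_twedge (θ : Module.Dual B N) (p : ℕ) (a : M ⊗[B] ↥(⋀[B]^1 N)) (η : ↥(⋀[B]^(p + 1) N)) :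
    ctP M θ (p + 1) (Conn.twedge (p + 1) a η) = ev θ a ⊗ₜ η - Conn.twedge p a (contr θ p η) := by
  induction a using TensorProduct.induction_on with
  | zero => simp
  | tmul m a => rw [twedge_eq, twedge_eq, ctP_tmul, contr_lw, ev_tmul, tmul_sub, tmul_smul, smul_tmul']
  | add x y hx hy =>
    simp only [map_add, LinearMap.add_apply, hx, hy, add_tmul]; abel

theorem ctP_twedge_zero (θ : Module.Dual B N) (a : M ⊗[B] ↥(⋀[B]^1 N)) (η : ↥(⋀[B]^0 N)) :
    ctP M θ 0 (Conn.twedge 0 a η) = ev θ a ⊗ₜ η := by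
  induction a using TensorProduct.induction_on with
  | zero => simp
  | tmul m a => rw [twedge_eq, ctP_tmul, contr_lw_zero, ev_tmul, tmul_smul, smul_tmul']
  | add x y hx hy =>
    simp only [map_add, LinearMap.add_apply, hx, hy, add_tmul]

end basics

/-- A module with differential over the receptacle `δ : B → N`, with closed family `ω`. -/
structure Str {B N : Type u} (M : Type u) [CommRing B] [AddCommGroup N] [Module B N]
    [AddCommGroup M] [Module B M] (δ : B → N) {κ : Type w} (ω : κ → N) where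
  D : ∀ p : ℕ, M ⊗[B] ↥(⋀[B]^p N) →+ M ⊗[B] ↥(⋀[B]^(p + 1) N)
  DD : ∀ p x, D (p + 1) (D p x) = 0
  leib : ∀ p (b : B) x, D p (b • x) = b • D p x + lwP M (δ b) p x
  na : M → M ⊗[B] ↥(⋀[B]^1 N)
  closed : ∀ (p : ℕ) (m : M) (i : Fin p → κ),
    D p (m ⊗ₜ exteriorPower.ιMulti B p (ω ∘ i)) =
      Conn.twedge p (na m) (exteriorPower.ιMulti B p (ω ∘ i))

namespace Str

variable {B N M : Type u} [CommRing B] [AddCommGroup N] [Module B N]
    [AddCommGroup M] [Module B M] {δ : B → N} {κ : Type w} {ω : κ → N}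

/-- The additive span of the monomials in `ω`. -/
def S (ω : κ → N) (p : ℕ) : AddSubgroup ↥(⋀[B]^p N) :=
  AddSubgroup.closure (Set.range (fun i : Fin p → κ => exteriorPower.ιMulti B p (ω ∘ i)))

theorem lw_mem_S (k : κ) (p : ℕ) (η : ↥(⋀[B]^p N)) (hη : η ∈ S ω p) : lw (ω k) p η ∈ S ω (p + 1) := by
  induction hη using AddSubgroup.closure_induction with
  | mem x hx =>
    obtain ⟨i, rfl⟩ := hx
    refine AddSubgroup.subset_closure ⟨Fin.cons k i, ?_⟩
    change exteriorPower.ιMulti B (p + 1) (ω ∘ Fin.cons k i) = _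
    rw [lw_ιMulti]
    congr 1
    funext j
    refine Fin.cases ?_ (fun j => ?_) j <;> simp
  | zero => simp
  | add x y _ _ hx hy => rw [map_add]; exact AddSubgroup.add_mem _ hx hy
  | neg x _ hx => rw [map_neg]; exact AddSubgroup.neg_mem _ hx

theorem contr_mem_S (θ : Module.Dual B N) (hθ : ∀ k, θ (ω k) = 0 ∨ θ (ω k) = 1) (p : ℕ)
    (η : ↥(⋀[B]^(p + 1) N)) (hη : η ∈ S ω (p + 1)) : contr θ p η ∈ S ω p := by
  have key : ∀ (k : κ) (p : ℕ) (ξ : ↥(⋀[B]^p N)), ξ ∈ S ω p → θ (ω k) • ξ ∈ S ω p := by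
    intro k p ξ hξ
    rcases hθ k with h | h <;> rw [h]
    · simp
    · simpa using hξ
  have hcons : ∀ (p : ℕ) (i : Fin (p + 1) → κ), exteriorPower.ιMulti B (p + 1) (ω ∘ i) =
      lw (ω (i 0)) p (exteriorPower.ιMulti B p (ω ∘ (fun j => i j.succ))) := by
    intro p i
    rw [lw_ιMulti]
    congr 1
    ext j
    refine Fin.cases ?_ (fun j => ?_) j <;> simp
  induction p with
  | zero =>
    induction hη using AddSubgroup.closure_induction with
    | mem x hx =>
      obtain ⟨i, rfl⟩ := hx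
      dsimp only
      rw [hcons, contr_lw_zero]
      exact key _ _ _ (AddSubgroup.subset_closure ⟨_, rfl⟩)
    | zero => simp
    | add x y _ _ hx hy => rw [map_add]; exact AddSubgroup.add_mem _ hx hy
    | neg x _ hx => rw [map_neg]; exact AddSubgroup.neg_mem _ hx
  | succ p ih =>
    induction hη using AddSubgroup.closure_induction with
    | mem x hx =>
      obtain ⟨i, rfl⟩ := hx
      dsimp only
      rw [hcons, contr_lw]
      refine AddSubgroup.sub_mem _ (key _ _ _ (AddSubgroup.subset_closure ⟨_, rfl⟩))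
        (lw_mem_S _ _ _ (ih _ (AddSubgroup.subset_closure ⟨_, rfl⟩)))
    | zero => simp
    | add x y _ _ hx hy => rw [map_add]; exact AddSubgroup.add_mem _ hx hy
    | neg x _ hx => rw [map_neg]; exact AddSubgroup.neg_mem _ hx

variable (L : Str M δ ω)

theorem closed_of_mem_S (p : ℕ) (m : M) (η : ↥(⋀[B]^p N)) (hη : η ∈ S ω p) :
    L.D p (m ⊗ₜ η) = Conn.twedge p (L.na m) η := by
  induction hη using AddSubgroup.closure_induction with
  | mem x hx => obtain ⟨i, rfl⟩ := hx; exact L.closed p m i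
  | zero => simp
  | add x y _ _ hx hy => rw [tmul_add, map_add, hx, hy, map_add]
  | neg x _ hx => rw [tmul_neg, map_neg, hx, map_neg]

/-- The Lie derivative along `θ`. -/
noncomputable def h (θ : Module.Dual B N) : ∀ p : ℕ, M ⊗[B] ↥(⋀[B]^p N) →+ M ⊗[B] ↥(⋀[B]^p N)
  | 0 => (ctP M θ 0).toAddMonoidHom.comp (L.D 0)
  | p + 1 => (ctP M θ (p + 1)).toAddMonoidHom.comp (L.D (p + 1)) +
      (L.D p).comp (ctP M θ p).toAddMonoidHom

theorem h_zero_apply (θ : Module.Dual B N) (x : M ⊗[B] ↥(⋀[B]^0 N)) :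
    L.h θ 0 x = ctP M θ 0 (L.D 0 x) := rfl

theorem h_succ_apply (θ : Module.Dual B N) (p : ℕ) (x : M ⊗[B] ↥(⋀[B]^(p + 1) N)) :
    L.h θ (p + 1) x = ctP M θ (p + 1) (L.D (p + 1) x) + L.D p (ctP M θ p x) := rfl

theorem h_D (θ : Module.Dual B N) (p : ℕ) (x : M ⊗[B] ↥(⋀[B]^p N)) :
    L.h θ (p + 1) (L.D p x) = L.D p (L.h θ p x) := by
  rw [h_succ_apply, L.DD, map_zero, zero_add]
  cases p with
  | zero => rw [h_zero_apply]
  | succ p => rw [h_succ_apply, map_add, L.DD, add_zero]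

theorem h_smul (θ : Module.Dual B N) (p : ℕ) (b : B) (x : M ⊗[B] ↥(⋀[B]^p N)) :
    L.h θ p (b • x) = b • L.h θ p x + θ (δ b) • x := by
  cases p with
  | zero =>
    rw [h_zero_apply, h_zero_apply, L.leib, map_add, map_smul, ctP_lwP_zero]
  | succ p =>
    rw [h_succ_apply, h_succ_apply, L.leib, map_add, map_smul, ctP_lwP, map_smul, L.leib, smul_add]
    abel

theorem h_tmul (θ : Module.Dual B N) (hθ : ∀ k, θ (ω k) = 0 ∨ θ (ω k) = 1) (p : ℕ) (m : M)
    (i : Fin p → κ) :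
    L.h θ p (m ⊗ₜ exteriorPower.ιMulti B p (ω ∘ i)) =
      ev θ (L.na m) ⊗ₜ exteriorPower.ιMulti B p (ω ∘ i) := by
  cases p with
  | zero => rw [h_zero_apply, L.closed, ctP_twedge_zero]
  | succ p =>
    rw [h_succ_apply, L.closed, ctP_twedge, ctP_tmul,
      L.closed_of_mem_S p m _ (contr_mem_S θ hθ p _ (AddSubgroup.subset_closure ⟨i, rfl⟩))]
    abel

/-- twist of the differential by `u` with `δ u = u • α`. -/
noncomputable def twist (u : B) (α : N) (hu : δ u = u • α)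
    (hreg : ∀ p (x : M ⊗[B] ↥(⋀[B]^p N)), u • x = 0 → x = 0) : Str M δ ω where
  D p := L.D p + (lwP M α p).toAddMonoidHom
  DD p x := by
    have key : ∀ p (y : M ⊗[B] ↥(⋀[B]^p N)),
        u • (L.D p y + lwP M α p y) = L.D p (u • y) := by
      intro p y
      rw [L.leib, hu, lwP_smul, smul_add]
      rfl
    apply hreg
    simp only [AddMonoidHom.add_apply, LinearMap.toAddMonoidHom_coe]
    rw [key, key, L.DD]
  leib p b x := by
    simp only [AddMonoidHom.add_apply, L.leib]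
    simp only [LinearMap.toAddMonoidHom_coe, map_smul, smul_add]
    abel
  na m := L.na m + m ⊗ₜ (exteriorPower.oneEquiv B N).symm α
  closed p m i := by
    rw [AddMonoidHom.add_apply, L.closed, map_add, LinearMap.add_apply, twedge_eq,
      LinearEquiv.apply_symm_apply]
    rfl

theorem twist_D_apply (u : B) (α : N) (hu : δ u = u • α)
    (hreg : ∀ p (x : M ⊗[B] ↥(⋀[B]^p N)), u • x = 0 → x = 0) (p : ℕ) (x : M ⊗[B] ↥(⋀[B]^p N)) :
    (L.twist u α hu hreg).D p x = L.D p x + lwP M α p x := rfl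

theorem smul_twist_D (u : B) (α : N) (hu : δ u = u • α)
    (hreg : ∀ p (x : M ⊗[B] ↥(⋀[B]^p N)), u • x = 0 → x = 0) (p : ℕ) (x : M ⊗[B] ↥(⋀[B]^p N)) :
    u • (L.twist u α hu hreg).D p x = L.D p (u • x) := by
  rw [L.leib, hu, lwP_smul, twist_D_apply, smul_add]
  rfl

theorem twist_na (u : B) (α : N) (hu : δ u = u • α)
    (hreg : ∀ p (x : M ⊗[B] ↥(⋀[B]^p N)), u • x = 0 → x = 0) (m : M) :
    (L.twist u α hu hreg).na m = L.na m + m ⊗ₜ (exteriorPower.oneEquiv B N).symm α := rfl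

theorem ev_twist_na (θ : Module.Dual B N) (u : B) (α : N) (hu : δ u = u • α)
    (hreg : ∀ p (x : M ⊗[B] ↥(⋀[B]^p N)), u • x = 0 → x = 0) (m : M) :
    ev θ ((L.twist u α hu hreg).na m) = ev θ (L.na m) + θ α • m := by
  rw [twist_na, map_add, ev_tmul, LinearEquiv.apply_symm_apply]

section acyc

variable {Mb : Type u} [AddCommGroup Mb] [Module B Mb] (π : M →ₗ[B] Mb)

theorem exists_smul_of_rTensor_eq_zero (hπs : Function.Surjective π) (t : B)
    (hπk : ∀ m, π m = 0 → ∃ m', m = t • m') (Q : Type u) [AddCommGroup Q] [Module B Q]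
    (x : M ⊗[B] Q) (hx : LinearMap.rTensor Q π x = 0) : ∃ z, x = t • z := by
  have hex : Function.Exact (LinearMap.ker π).subtype π := LinearMap.exact_subtype_ker_map π
  have h2 := rTensor_exact Q hex hπs
  obtain ⟨y, rfl⟩ := (h2 x).1 hx
  clear hx
  induction y using TensorProduct.induction_on with
  | zero => exact ⟨0, by simp⟩
  | tmul m q =>
    obtain ⟨m', hm'⟩ := hπk m.1 m.2
    refine ⟨m' ⊗ₜ q, ?_⟩
    rw [LinearMap.rTensor_tmul, smul_tmul', ← hm']
    rfl
  | add x y hx hy =>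
    obtain ⟨z, hz⟩ := hx
    obtain ⟨z', hz'⟩ := hy
    exact ⟨z + z', by rw [map_add, hz, hz', smul_add]⟩

variable (hspan : Submodule.span B (Set.range ω) = ⊤)

include hspan in
theorem induction_tmul (p : ℕ) (C : M ⊗[B] ↥(⋀[B]^p N) → Prop) (h0 : C 0)
    (hadd : ∀ x y, C x → C y → C (x + y))
    (ht : ∀ (m : M) (i : Fin p → κ), C (m ⊗ₜ exteriorPower.ιMulti B p (ω ∘ i)))
    (x : M ⊗[B] ↥(⋀[B]^p N)) : C x := by
  induction x using TensorProduct.induction_on with
  | zero => exact h0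
  | add x y hx hy => exact hadd x y hx hy
  | tmul m η =>
    have hη : η ∈ Submodule.span B ((exteriorPower.ιMulti B p) '' {a : Fin p → N | Set.range a ⊆ Set.range ω}) := by
      rw [exteriorPower.ιMulti_span_of_span (n := p) (hs := hspan)]; trivial
    induction hη using Submodule.span_induction generalizing m with
    | mem η hη =>
      obtain ⟨a, ha, rfl⟩ := hη
      have : ∀ j, ∃ k, ω k = a j := fun j => ha ⟨j, rfl⟩
      choose i hi using this
      have : a = ω ∘ i := by ext j; simp [hi]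
      rw [this]
      exact ht m i
    | zero => simpa using h0
    | add η η' _ _ h1 h2 => rw [tmul_add]; exact hadd _ _ (h1 m) (h2 m)
    | smul b η _ h => rw [tmul_smul, smul_tmul']; exact h (b • m)

include hspan in
/-- The Lie derivative modulo `t`. -/
theorem rTensor_h (θ : Module.Dual B N) (hθ : ∀ k, θ (ω k) = 0 ∨ θ (ω k) = 1)
    (Rb : Mb →ₗ[B] Mb) (hR : ∀ m, Rb (π m) = π (ev θ (L.na m))) (p : ℕ)
    (x : M ⊗[B] ↥(⋀[B]^p N)) :
    LinearMap.rTensor _ π (L.h θ p x) = LinearMap.rTensor _ Rb (LinearMap.rTensor _ π x) := by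
  refine induction_tmul (ω := ω) hspan p (fun x => LinearMap.rTensor _ π (L.h θ p x) =
    LinearMap.rTensor _ Rb (LinearMap.rTensor _ π x)) (by simp) ?_ ?_ x
  · intro x y hx hy
    simp only [map_add, hx, hy]
  · intro m i
    rw [L.h_tmul θ hθ, LinearMap.rTensor_tmul, LinearMap.rTensor_tmul, LinearMap.rTensor_tmul, hR]

include hspan in
/-- Acyclicity modulo `t`. -/
theorem acyc_aux (θ : Module.Dual B N) (hθ : ∀ k, θ (ω k) = 0 ∨ θ (ω k) = 1)
    (hπs : Function.Surjective π) (t : B)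
    (hπk : ∀ m, π m = 0 → ∃ m', m = t • m') (hπt : ∀ m, π (t • m) = 0)
    (dt : N) (hdt : δ t = t • dt)
    (Rb : Mb ≃ₗ[B] Mb) (hR : ∀ m, Rb (π m) = π (ev θ (L.na m))) (p : ℕ)
    (x : M ⊗[B] ↥(⋀[B]^p N)) (w : M ⊗[B] ↥(⋀[B]^(p + 1) N)) (hx : L.D p x = t • w) :
    (∀ _ : p = 0, ∃ z, x = t • z) ∧
    (∀ (q : ℕ) (h : p = q + 1), ∃ (y : M ⊗[B] ↥(⋀[B]^q N)) (z : M ⊗[B] ↥(⋀[B]^p N)),
      x = (h ▸ L.D q y) + t • z) := by
  have hker : ∀ (q : ℕ) (y : M ⊗[B] ↥(⋀[B]^q N)), LinearMap.rTensor _ π (t • y) = 0 := by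
    intro q y
    induction y using TensorProduct.induction_on with
    | zero => simp
    | tmul m η => rw [smul_tmul', LinearMap.rTensor_tmul, hπt, zero_tmul]
    | add x y hx hy => rw [smul_add, map_add, hx, hy, add_zero]
  have hinj : ∀ (q : ℕ), Function.Injective (LinearMap.rTensor (↥(⋀[B]^q N)) Rb.toLinearMap) := by
    intro q
    exact (LinearEquiv.rTensor (↥(⋀[B]^q N)) Rb).injective
  have hsurj : ∀ (q : ℕ), Function.Surjective (LinearMap.rTensor (↥(⋀[B]^q N)) Rb.toLinearMap) := by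
    intro q
    exact (LinearEquiv.rTensor (↥(⋀[B]^q N)) Rb).surjective
  have hπs' : ∀ (q : ℕ), Function.Surjective (LinearMap.rTensor (↥(⋀[B]^q N)) π) := by
    intro q
    exact LinearMap.rTensor_surjective _ hπs
  have hh := fun q y => L.rTensor_h π hspan θ hθ Rb.toLinearMap hR q y
  refine ⟨?_, ?_⟩
  · rintro rfl
    have h1 := hh 0 x
    rw [h_zero_apply, hx, map_smul, hker] at h1
    have h2 := hinj 0 (h1.symm.trans (map_zero _).symm)
    exact exists_smul_of_rTensor_eq_zero π hπs t hπk _ x h2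
  · rintro q rfl
    have h1 := hh (q + 1) x
    rw [h_succ_apply, hx, map_smul, map_add, hker, zero_add] at h1
    obtain ⟨y', hy'⟩ := hsurj q (LinearMap.rTensor _ π (ctP M θ q x))
    obtain ⟨y, rfl⟩ := hπs' q y'
    rw [← hh] at hy'
    obtain ⟨z, hz⟩ := exists_smul_of_rTensor_eq_zero π hπs t hπk _ (L.h θ q y - ctP M θ q x)
      (by rw [map_sub, hy', sub_self])
    have h3 : LinearMap.rTensor _ π (L.D q (ctP M θ q x)) = LinearMap.rTensor _ π (L.D q (L.h θ q y)) := by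
      rw [eq_comm, ← sub_eq_zero, ← map_sub, ← map_sub, hz, L.leib, hdt, lwP_smul,
        LinearMap.smul_apply, ← smul_add, hker]
    rw [h3, ← h_D, hh] at h1
    have h4 := hinj (q + 1) h1
    obtain ⟨z', hz'⟩ := exists_smul_of_rTensor_eq_zero π hπs t hπk _ (x - L.D q y)
      (by rw [map_sub, ← h4, sub_self])
    refine ⟨y, z', ?_⟩
    rw [← hz']
    simp

end acyc

end Str

end K913.LogDG
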