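import Groth.Agent.LogNCD.K913.Qis
import Groth.Agent.LogNCD.K913.HasCharts
import Groth.Agent.Dix.IdealModCartier

/-!
# Twists and quasi-isomorphisms: conclusions
-/

set_option autoImplicit false

universe u

open CategoryTheory CategoryTheory.Limits AlgebraicGeometry Opposite TopologicalSpace
open scoped TensorProduct
open Groth.Agent.Sga67.Sec Groth.Agent.Sga67.LocBasis

namespace K913.Main

open K913.Contr K913.LogDG K913.CxLoc K913.CxStr K913.TermLoc K913.TauAff K913.Chart K913.ChartAcyc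
  K922.DSec K922.Quot K922.Tens K913.Qis

variable {X S : Scheme.{u}} {f : X ⟶ S} {Ω' : X.Modules} {d : OmegaSh.Der f Ω'} {r : ℕ}
  {D : Fin r → X.IdealSheafData} {Λ : LogNCD.LogMod d D}

theorem ideal_finset_prod {ι : Type*} (s : Finset ι) (I : ι → X.IdealSheafData) (U : X.affineOpens) :
    (∏ i ∈ s, I i).ideal U = ∏ i ∈ s, (I i).ideal U := by
  classical
  induction s using Finset.induction_on with
  | empty => simp
  | insert i s hi ih => rw [Finset.prod_insert hi, Finset.prod_insert hi, ← ih]; rfl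

theorem ideal_prod_pow (ν : Fin r → ℕ) (U : X.affineOpens) :
    (∏ j, D j ^ ν j).ideal U = ∏ j, (D j).ideal U ^ ν j := by
  rw [ideal_finset_prod]
  exact Finset.prod_congr rfl fun j _ => rfl

/-- The residue of the connection along `D_j`, shifted by `c`, is an isomorphism. -/
def ResIso (Λ : LogNCD.LogMod d D) (E : X.Modules) (nabla : Coh.toAb E ⟶ Coh.toAb (CohB1.tensorMod E Λ.L))
    (j : Fin r) (c : ℤ) : Prop :=
  ∃ (ρ : E ⟶ CohB1.tensorMod E (ClSub.quotMod (D j)))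
    (R : CohB1.tensorMod E (ClSub.quotMod (D j)) ⟶ CohB1.tensorMod E (ClSub.quotMod (D j))),
    LogNCD.IsResidue Λ E nabla j ρ ∧
    (SecTwist.unitorR E).inv ≫ KoszTw.tensorMap (𝟙 E) (ClSub.toSubscheme (D j)) ≫ R = ρ ∧
    IsIso (R + c • 𝟙 (CohB1.tensorMod E (ClSub.quotMod (D j))))

section chart

variable {U : X.affineOpens} (C : Ch Λ U) {E : X.Modules} (hE : FlatMod.IsFinLocFree E)
  {nabla : Coh.toAb E ⟶ Coh.toAb (CohB1.tensorMod E Λ.L)} (hc : ConnSh.IsConn (LogNCD.der Λ) E nabla)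
  (K : ConnSh.Cx (LogNCD.der Λ) E nabla)
  {m : ℕ} {b : Fin m → Sec E U.1} (hb : IsLocBasis b)

theorem appS_zsmul {M N : X.Modules} (c : ℤ) (g : M ⟶ N) (W : X.Opens) (s : Sec M W) :
    appS (c • g) W s = c • appS g W s := by
  obtain ⟨n, rfl | rfl⟩ := c.eq_nat_or_neg
  · rw [natCast_zsmul, natCast_zsmul, appS_nsmul]
  · rw [neg_smul, neg_smul, natCast_zsmul, natCast_zsmul, appS_neg, appS_nsmul]

include hE in
/-- Acyclicity modulo `g^ν` over a chart, from the residue condition. -/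
theorem acycMod_chart' (hL : Coh.IsQCoh Λ.L) (ν : Fin r → ℕ)
    (hres : ∀ (j : Fin r) (c : ℕ), c < ν j → ResIso Λ E nabla j c) :
    (strC C hc K hb).AcycMod (∏ i, C.g i ^ ν i) := by
  have hreg : ∀ i p (x : Sec E U.1 ⊗[Γ(X, U.1)] ↥(⋀[Γ(X, U.1)]^p (Sec Λ.L U.1))), C.g i • x = 0 → x = 0 :=
    fun i p x hx => PU_smul_eq_zero p hb C.isLocBasis (C.g i) (C.g_mem i) x hx
  refine (strC C hc K hb).acycMod_prod C.g (dl C) (dS_mul (LogNCD.der Λ) U.1) (dS_g C) hreg ν ?_
  intro i μ hμ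
  rcases hi : C.e i with _ | k
  · apply LogDG.Str.acycMod_of_isUnit
    rw [C.none_one i hi]
    exact isUnit_one
  · obtain ⟨ρ, R, hρ, hR, hiso⟩ := hres i (μ i) hμ
    refine (strC C hc K hb).acycMod_twist_of_bijective (Mb := Sec (CohB1.tensorMod E (ClSub.quotMod (D i))) U.1)
      (appS (toQuot E (D i)) U.1) (span_ω C) (θ C k) (θ_ω' C k)
      (toQuot_surjective (D i) hE U) (C.g i) (toQuot_eq_zero (D i) hE U (C.g i) (C.ideal_eq i)) ?_
      (dl C i) (dS_g C i) (appS R U.1) ?_ _ _ _ _ (μ i) ?_ ?_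
    · intro e
      exact toQuot_smul_eq_zero (D i) U (C.g i) (by rw [C.ideal_eq]; exact Ideal.mem_span_singleton_self _) e
    · intro e
      have h1 : appS ρ U.1 e = appS R U.1 (appS (toQuot E (D i)) U.1 e) := by
        rw [← hR, ← Category.assoc, appS_comp]
        rfl
      rw [← h1, residue_na C hE K i k hi hL ρ hρ]
      rfl
    · rw [map_sum, Finset.sum_eq_single i]
      · rw [map_nsmul, θ_dl C i i k hi, if_pos rfl, nsmul_one]
      · intro j _ hj
        rw [map_nsmul, θ_dl C i j k hi, if_neg hj, smul_zero]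
      · simp
    · have h2 := bijective_appS (R + (μ i : ℤ) • 𝟙 (CohB1.tensorMod E (ClSub.quotMod (D i)))) U.1
      convert h2 using 1
      ext s
      rw [appS_add, natCast_zsmul, appS_nsmul, appS_id]
      rfl

end chart

/-- A point of a chart: the ideal of a divisor supported on `D` is effective Cartier. -/
theorem isEff (hch : HasCharts Λ) (ν : Fin r → ℕ) : BlowUp.IsEffCartierIdeal (∏ j, D j ^ ν j) := by
  intro x
  obtain ⟨U, hxU, -, ⟨C⟩⟩ := hch x ⊤ trivial
  refine ⟨U, hxU, ∏ j, C.g j ^ ν j, prod_mem fun j _ => pow_mem (C.g_mem j) _, ?_⟩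
  rw [ideal_prod_pow, ← Ideal.prod_span_singleton]
  refine Finset.prod_congr rfl fun j _ => ?_
  rw [C.ideal_eq j, Ideal.span_singleton_pow]

theorem isEff_comp (hch : HasCharts Λ) (j : Fin r) : BlowUp.IsEffCartierIdeal (D j) := by
  intro x
  obtain ⟨U, hxU, -, ⟨C⟩⟩ := hch x ⊤ trivial
  exact ⟨U, hxU, C.g j, C.g_mem j, C.ideal_eq j⟩

theorem isFinLocFree_of_isInvertible {L : X.Modules} (hL : PicF.IsInvertible L) :
    FlatMod.IsFinLocFree L := by
  intro x
  obtain ⟨U, hU, ⟨e⟩⟩ := hL x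
  refine ⟨U, 1, hU, ⟨e ≪≫ ?_⟩⟩
  exact (Limits.coproductUniqueIso (fun _ : Fin 1 => Coh.structureModule (↑U : Scheme.{u}))).symm

theorem isFinLocFree_idealMod {I : X.IdealSheafData} (hI : BlowUp.IsEffCartierIdeal I) :
    FlatMod.IsFinLocFree (ClSub.idealMod I) :=
  isFinLocFree_of_isInvertible (Groth.Agent.Dix.IdealModCartier.isInvertible_idealMod hI)

theorem isFinLocFree_twist {E : X.Modules} (hE : FlatMod.IsFinLocFree E) {I : X.IdealSheafData}
    (hI : BlowUp.IsEffCartierIdeal I) :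
    FlatMod.IsFinLocFree (CohB1.tensorMod E (ClSub.idealMod I)) :=
  Groth.Agent.Sga67.LocBasis.isFinLocFree_tensorMod hE (isFinLocFree_idealMod hI)

section twist

variable {E : X.Modules} (hE : FlatMod.IsFinLocFree E) {I : X.IdealSheafData}
  (hEI : FlatMod.IsFinLocFree (CohB1.tensorMod E (ClSub.idealMod I)))
  (hL : Coh.IsQCoh Λ.L)
  {nabla : Coh.toAb E ⟶ Coh.toAb (CohB1.tensorMod E Λ.L)}
  (K : ConnSh.Cx (LogNCD.der Λ) E nabla)
  {nabla' : Coh.toAb (CohB1.tensorMod E (ClSub.idealMod I)) ⟶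
    Coh.toAb (CohB1.tensorMod (CohB1.tensorMod E (ClSub.idealMod I)) Λ.L)}
  (ht : LogNCD.IsTwist Λ E nabla I nabla')
  (K' : ConnSh.Cx (LogNCD.der Λ) (CohB1.tensorMod E (ClSub.idealMod I)) nabla')

include hEI hL in
theorem tensorMap_incl_iso1 (U : X.affineOpens)
    (s : Sec (CohB1.tensorMod (CohB1.tensorMod E (ClSub.idealMod I)) Λ.L) U.1) :
    lo K 1 U (appS K.iso1.inv U.1
      (appS (KoszTw.tensorMap (LogNCD.inclTwist E I) (𝟙 Λ.L)) U.1 s)) =
    Psi Λ.L E I 1 U (lo K' 1 U (appS K'.iso1.inv U.1 s)) := by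
  refine tensor_induction (Groth.Agent.PerfA.QCohEpi.isQCoh_of_isFinLocFree hEI) hL U
    (fun s => lo K 1 U (appS K.iso1.inv U.1
      (appS (KoszTw.tensorMap (LogNCD.inclTwist E I) (𝟙 Λ.L)) U.1 s)) =
    Psi Λ.L E I 1 U (lo K' 1 U (appS K'.iso1.inv U.1 s))) ?_ ?_ ?_ s
  · simp
  · intro x y hx hy
    simp only [map_add, hx, hy]
  · intro e α
    rw [lo_iso1_inv_tmul, Psi_tmul]
    have h1 := tensorMap_tau (LogNCD.inclTwist E I) (𝟙 Λ.L) U.1 (e ⊗ₜ[Γ(X, U.1)] α)
    rw [TensorProduct.map_tmul] at h1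
    have h2 : appS (KoszTw.tensorMap (LogNCD.inclTwist E I) (𝟙 Λ.L)) U.1
        (SecTwist.tmul (CohB1.tensorMod E (ClSub.idealMod I)) Λ.L U.1 e α) =
      SecTwist.tmul E Λ.L U.1 (appS (LogNCD.inclTwist E I) U.1 e) α := h1
    refine (congrArg (fun t => lo K 1 U (appS K.iso1.inv U.1 t)) h2).trans ?_
    exact lo_iso1_inv_tmul K U _ _

include hEI hL ht in
/-- The twisted connection maps to the connection. -/
theorem Psi_na (U : X.affineOpens) (s : Sec (CohB1.tensorMod E (ClSub.idealMod I)) U.1) :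
    Psi Λ.L E I 1 U (na K' U s) = na K U (appS (LogNCD.inclTwist E I) U.1 s) := by
  have h1 : ConnSh.secApp (nabla' ≫ (SheafOfModules.toSheaf X.ringCatSheaf).map
      (KoszTw.tensorMap (LogNCD.inclTwist E I) (𝟙 Λ.L))) U.1 s =
    ConnSh.secApp ((SheafOfModules.toSheaf X.ringCatSheaf).map (LogNCD.inclTwist E I) ≫ nabla) U.1 s := by
    rw [ht]
  rw [secApp_comp, secApp_comp, secApp_map, secApp_map] at h1
  rw [na, na, ← h1, tensorMap_incl_iso1 hEI hL K K']

theorem ev_Psi (U : X.affineOpens) (θ : Module.Dual Γ(X, U.1) (Sec Λ.L U.1))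
    (x : PU (CohB1.tensorMod E (ClSub.idealMod I)) Λ.L 1 U) :
    ev θ (Psi Λ.L E I 1 U x) = appS (LogNCD.inclTwist E I) U.1 (ev θ x) := by
  induction x using TensorProduct.induction_on with
  | zero => simp
  | tmul s η => rw [Psi_tmul, ev_tmul, ev_tmul, map_smul]
  | add x y hx hy => simp only [map_add, hx, hy]

variable (hc : ConnSh.IsConn (LogNCD.der Λ) E nabla)

include hEI hL ht hc in
theorem ev_na_twist {U : X.affineOpens} (C : Ch Λ U) (ν : Fin r → ℕ)
    (j : Sec (CohB1.tensorMod E (ClSub.idealMod I)) U.1 ≃ₗ[Γ(X, U.1)] Sec E U.1)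
    (hreg : ∀ e : Sec E U.1, (∏ l, C.g l ^ ν l) • e = 0 → e = 0)
    (hj : ∀ s, appS (LogNCD.inclTwist E I) U.1 s = (∏ l, C.g l ^ ν l) • j s)
    (θ : Module.Dual Γ(X, U.1) (Sec Λ.L U.1))
    (s : Sec (CohB1.tensorMod E (ClSub.idealMod I)) U.1) :
    ev θ (na K U (j s)) = j (ev θ (na K' U s)) - θ (∑ l, ν l • dl C l) • j s := by
  have h1 := Psi_na hEI hL K ht K' U s
  have h2 := congrArg (ev θ) h1
  have hδ : dS (LogNCD.der Λ) U.1 (∏ l, C.g l ^ ν l) = (∏ l, C.g l ^ ν l) • ∑ l, ν l • dl C l :=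
    LogDG.Str.delta_prod (B := Γ(X, U.1)) (N := Sec Λ.L U.1) (δ := fun b => dS (LogNCD.der Λ) U.1 b)
      C.g (dl C) (dS_mul (LogNCD.der Λ) U.1) (dS_g C) ν
  rw [ev_Psi, hj, hj, na_smul K hc, map_add, map_smul, ev_tmul, exteriorPower.oneEquiv_ιMulti, hδ, map_smul,
    smul_eq_mul, mul_smul, ← smul_add] at h2
  rw [eq_sub_iff_add_eq, ← sub_eq_zero]
  apply hreg
  rw [smul_sub, ← h2, sub_self]

include hEI hL ht hc hE K' in
/-- Acyclicity modulo `g^ν` over a chart, from the residues of the twisted connection. -/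
theorem acycMod_chart_twist {U : X.affineOpens} (C : Ch Λ U) {m : ℕ} {b : Fin m → Sec E U.1} (hb : IsLocBasis b)
    (ν : Fin r → ℕ) (hI : I.ideal U = Ideal.span {∏ l, C.g l ^ ν l})
    (hres : ∀ (j : Fin r) (c : ℕ), c < ν j →
      ResIso Λ (CohB1.tensorMod E (ClSub.idealMod I)) nabla' j ((c : ℤ) - ν j)) :
    (strC C hc K hb).AcycMod (∏ i, C.g i ^ ν i) := by
  have hreg : ∀ i p (x : Sec E U.1 ⊗[Γ(X, U.1)] ↥(⋀[Γ(X, U.1)]^p (Sec Λ.L U.1))), C.g i • x = 0 → x = 0 :=
    fun i p x hx => PU_smul_eq_zero p hb C.isLocBasis (C.g i) (C.g_mem i) x hx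
  have hregE : ∀ e : Sec E U.1, (∏ l, C.g l ^ ν l) • e = 0 → e = 0 :=
    fun e he => smul_eq_zero_imp hb _ (prod_mem fun j _ => pow_mem (C.g_mem j) _) e he
  obtain ⟨j, hj⟩ := exists_j I U _ hI hregE hE
  refine (strC C hc K hb).acycMod_prod C.g (dl C) (dS_mul (LogNCD.der Λ) U.1) (dS_g C) hreg ν ?_
  intro i μ hμ
  rcases hi : C.e i with _ | k
  · apply LogDG.Str.acycMod_of_isUnit
    rw [C.none_one i hi]
    exact isUnit_one
  · obtain ⟨ρ, R, hρ, hR, hiso⟩ := hres i (μ i) hμ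
    have hθ : ∀ μ : Fin r → ℕ, θ C k (∑ l, μ l • dl C l) = μ i := by
      intro μ
      rw [map_sum, Finset.sum_eq_single i]
      · rw [map_nsmul, θ_dl C i i k hi, if_pos rfl, nsmul_one]
      · intro l _ hl
        rw [map_nsmul, θ_dl C i l k hi, if_neg hl, smul_zero]
      · simp
    refine (strC C hc K hb).acycMod_twist_of_bijective
      (Mb := Sec (CohB1.tensorMod (CohB1.tensorMod E (ClSub.idealMod I)) (ClSub.quotMod (D i))) U.1)
      (appS (toQuot (CohB1.tensorMod E (ClSub.idealMod I)) (D i)) U.1 ∘ₗ j.symm.toLinearMap)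
      (span_ω C) (θ C k) (θ_ω' C k)
      ?_ (C.g i) ?_ ?_
      (dl C i) (dS_g C i) (appS (R + (-(ν i : ℤ)) • 𝟙 _) U.1) ?_ _ _ _ _ (μ i) (hθ μ) ?_
    · exact (toQuot_surjective (D i) hEI U).comp j.symm.surjective
    · intro e he
      obtain ⟨e', he'⟩ := toQuot_eq_zero (D i) hEI U (C.g i) (C.ideal_eq i) _ he
      refine ⟨j e', ?_⟩
      rw [← map_smul, ← he']
      exact (j.apply_symm_apply e).symm
    · intro e
      rw [LinearMap.comp_apply, map_smul]
      exact toQuot_smul_eq_zero (D i) U (C.g i) (by rw [C.ideal_eq]; exact Ideal.mem_span_singleton_self _) _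
    · intro e
      obtain ⟨s, rfl⟩ := j.surjective e
      have h1 : appS ρ U.1 s = appS R U.1 (appS (toQuot (CohB1.tensorMod E (ClSub.idealMod I)) (D i)) U.1 s) := by
        rw [← hR, ← Category.assoc, appS_comp]
        rfl
      have h2 : ev (θ C k) ((strC C hc K hb).na (j s)) = j (ev (θ C k) (na K' U s)) - (ν i : Γ(X, U.1)) • j s := by
        rw [← hθ ν]
        exact ev_na_twist hEI hL K ht K' hc C ν j hregE hj (θ C k) s
      rw [h2, LinearMap.comp_apply, LinearMap.comp_apply, appS_add, appS_zsmul, appS_id]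
      simp only [LinearEquiv.coe_coe, LinearEquiv.symm_apply_apply, map_sub, map_smul]
      rw [← h1, residue_na C hEI K' i k hi hL ρ hρ, neg_smul, natCast_zsmul, Nat.cast_smul_eq_nsmul,
        sub_eq_add_neg]
    · have h2 := bijective_appS (R + ((μ i : ℤ) - ν i) • 𝟙 (CohB1.tensorMod (CohB1.tensorMod E
        (ClSub.idealMod I)) (ClSub.quotMod (D i)))) U.1
      convert h2 using 1
      ext s
      rw [LinearMap.add_apply, LinearMap.smul_apply, LinearMap.id_apply, appS_add, appS_add, appS_zsmul,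
        appS_zsmul, sub_smul, neg_smul, natCast_zsmul, natCast_zsmul, appS_id]
      abel

end twist

end K913.Main
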