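import Groth.Agent.LogNCD.K913.Factor
import Groth.Agent.LogNCD.K913.Main

/-!
# The subcomplex `K(-B)` of a logarithmic de Rham complex
-/

set_option autoImplicit false

universe u w

open CategoryTheory CategoryTheory.Limits AlgebraicGeometry Opposite TopologicalSpace
open scoped TensorProduct
open Groth.Agent.Sga67.Sec Groth.Agent.Sga67.LocBasis

namespace K913.NegTwist

open K913.Contr K913.LogDG K913.CxLoc K913.CxStr K913.TermLoc K913.TauAff K913.Chart K913.ChartAcyc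
  K922.DSec K922.Quot K922.Tens K913.Qis K913.Main K913.Factor

variable {X S : Scheme.{u}} {f : X ⟶ S}

section main

variable {Ω' : X.Modules} {d : OmegaSh.Der f Ω'} {r : ℕ}
  {D : Fin r → X.IdealSheafData} {Λ : LogNCD.LogMod d D} (hch : HasCharts Λ)
  {E : X.Modules} (hE : FlatMod.IsFinLocFree E)
  {nabla : Coh.toAb E ⟶ Coh.toAb (CohB1.tensorMod E Λ.L)} (hc : ConnSh.IsConn (LogNCD.der Λ) E nabla)
  (K : ConnSh.Cx (LogNCD.der Λ) E nabla)

/-- sections of a map into a term of `K` -/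
noncomputable def vS {P : Sheaf (Opens.grothendieckTopology X) AddCommGrpCat.{u}} (p : ℕ) (v : P ⟶ K.K.X p)
    (U : X.Opens) : P.obj.obj (op U) →+ KS K p U := (v.hom.app (op U)).hom

/-- the charts as a basis -/
def ChB (Λ : LogNCD.LogMod d D) (E : X.Modules) : Set X.Opens :=
  {V : X.Opens | ∃ U : X.affineOpens, U.1 = V ∧ Nonempty (ECh Λ E U)}

include hch hE in
theorem chB_basis (O : X.Opens) (x : X) (hx : x ∈ O) : ∃ V ∈ ChB Λ E, x ∈ V ∧ V ≤ O := by
  obtain ⟨U, hxU, hU, hT⟩ := exists_ECh hch hE x O hx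
  exact ⟨U.1, ⟨U, rfl, hT⟩, hxU, hU⟩

include hch hE in
/-- Generalised form of `quasiIso_of_acycMod`: `φ : P → K` injective on charts with image `g^ν K`. -/
theorem quasiIso_of_range (ν : Fin r → ℕ)
    {P : CochainComplex (Sheaf (Opens.grothendieckTopology X) AddCommGrpCat.{u}) ℕ} (φ : P ⟶ K.K)
    (hinj : ∀ (U : X.affineOpens) (_ : ECh Λ E U) (p : ℕ) (x : (P.X p).obj.obj (op U.1)),
      vS K p (φ.f p) U.1 x = 0 → x = 0)
    (hran : ∀ (U : X.affineOpens) (T : ECh Λ E U) (p : ℕ) (y : KS K p U.1),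
      (∃ x, vS K p (φ.f p) U.1 x = y) ↔ ∃ z, la K p U y = (∏ j, T.C.g j ^ ν j) • z)
    (hac : ∀ (U : X.affineOpens) (T : ECh Λ E U), (strC T.C hc K T.hb).AcycMod (∏ j, T.C.g j ^ ν j)) :
    QuasiIso φ := by
  refine K913.QisBasis.quasiIso_of_basis φ (ChB Λ E) (chB_basis hch hE) ?_ ?_ ?_
  · rintro _ ⟨U, rfl, ⟨T⟩⟩ p x hx
    exact hinj U T p x hx
  · rintro _ ⟨U, rfl, ⟨T⟩⟩ y w hyw
    have h1 : kd K 0 1 U.1 y = vS K 1 (φ.f 1) U.1 w := hyw
    obtain ⟨w', hw'⟩ := (hran U T 1 (vS K 1 (φ.f 1) U.1 w)).1 ⟨w, rfl⟩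
    have h2 := congrArg (la K 1 U) h1
    rw [la_kd K 0 U y, hw'] at h2
    obtain ⟨z, hz⟩ := (hac U T).1 _ _ h2
    obtain ⟨x, hx⟩ := (hran U T 0 y).2 ⟨z, hz⟩
    exact ⟨x, hx.symm⟩
  · rintro _ ⟨U, rfl, ⟨T⟩⟩ p y w hyw
    have h1 : kd K (p + 1) (p + 2) U.1 y = vS K (p + 2) (φ.f (p + 2)) U.1 w := hyw
    obtain ⟨w', hw'⟩ := (hran U T (p + 2) (vS K (p + 2) (φ.f (p + 2)) U.1 w)).1 ⟨w, rfl⟩
    have h2 := congrArg (la K (p + 2) U) h1
    rw [la_kd K (p + 1) U y, hw'] at h2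
    obtain ⟨c, z, hz⟩ := (hac U T).2 p _ _ h2
    obtain ⟨x, hx⟩ := (hran U T (p + 1) ((la K (p + 1) U).symm ((∏ j, T.C.g j ^ ν j) • z))).2
      ⟨z, AddEquiv.apply_symm_apply _ _⟩
    refine ⟨(la K p U).symm c, x, ?_⟩
    apply (la K (p + 1) U).injective
    have h3 : la K (p + 1) U (kd K p (p + 1) U.1 ((la K p U).symm c) + vS K (p + 1) (φ.f (p + 1)) U.1 x) =
      la K (p + 1) U y := by
      rw [map_add, hx, ← D_apply, AddEquiv.apply_symm_apply]
      exact hz.symm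
    exact h3.symm

include hch hE in
/-- The terms of `K` are finite locally free. -/
theorem isFinLocFree_term (p : ℕ) : FlatMod.IsFinLocFree (K.term p) := by
  apply isFinLocFree_of_exists
  intro x
  obtain ⟨U, hxU, -, ⟨T⟩⟩ := exists_ECh hch hE x ⊤ trivial
  exact ⟨U.1, Fin T.m × Set.powersetCard (Fin T.C.n) p, inferInstance, _, hxU,
    isLocBasis_term K p T.hb T.C.isLocBasis⟩

/-- the inclusion of the terms -/
noncomputable def negι (I : X.IdealSheafData) (p : ℕ) :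
    Coh.toAb (CohB1.tensorMod (K.term p) (ClSub.idealMod I)) ⟶ K.K.X p :=
  (SheafOfModules.toSheaf X.ringCatSheaf).map (LogNCD.inclTwist (K.term p) I) ≫ (K.iso p).inv

theorem io_negι (I : X.IdealSheafData) (p : ℕ) (U : X.Opens)
    (x : Sec (CohB1.tensorMod (K.term p) (ClSub.idealMod I)) U) :
    io K p U (vS K p (negι K I p) U x) = appS (LogNCD.inclTwist (K.term p) I) U x :=
  (io K p U).apply_symm_apply _

include hch hE in
theorem mono_negι (I : X.IdealSheafData) (p : ℕ) : Mono (negι K I p) := by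
  refine mono_of_basis (ChB Λ E) (chB_basis hch hE) _ ?_
  rintro _ ⟨U, rfl, ⟨T⟩⟩ x hx
  have h1 : io K p U.1 (vS K p (negι K I p) U.1 x) = 0 := by
    have : vS K p (negι K I p) U.1 x = 0 := hx
    rw [this, map_zero]
  rw [io_negι] at h1
  exact inclTwist_injective I (isFinLocFree_term hch hE K p) U.1 (h1.trans (map_zero _).symm)

include hch hE in
theorem range_negι (I : X.IdealSheafData) (ν : Fin r → ℕ) (U : X.affineOpens) (T : ECh Λ E U)
    (hI : I.ideal U = ∏ j, (D j).ideal U ^ ν j) (p : ℕ) (y : KS K p U.1) :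
    (∃ x, vS K p (negι K I p) U.1 x = y) ↔ ∃ z, la K p U y = (∏ j, T.C.g j ^ ν j) • z := by
  have hG : I.ideal U = Ideal.span {∏ j, T.C.g j ^ ν j} := by
    rw [hI, ← Ideal.prod_span_singleton]
    refine Finset.prod_congr rfl fun j _ => ?_
    rw [T.C.ideal_eq j, Ideal.span_singleton_pow]
  have h1 := range_inclTwist I (isFinLocFree_term hch hE K p) U _ hG (io K p U.1 y)
  constructor
  · rintro ⟨x, rfl⟩
    obtain ⟨e', he'⟩ := h1.1 ⟨x, (io_negι K I p U.1 x).symm⟩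
    exact ⟨lo K p U e', by rw [la_apply, he', map_smul]⟩
  · rintro ⟨z, hz⟩
    obtain ⟨x, hx⟩ := h1.2 ⟨(lo K p U).symm z, by
      apply (lo K p U).injective
      rw [map_smul, LinearEquiv.apply_symm_apply]
      exact hz⟩
    refine ⟨x, ?_⟩
    apply (io K p U.1).injective
    rw [io_negι, hx]

include hch hE hc in
/-- The differential restricts to `K(-B)`. -/
theorem exists_negD (ν : Fin r → ℕ) (I : X.IdealSheafData)
    (hI : ∀ U : X.affineOpens, I.ideal U = ∏ j, (D j).ideal U ^ ν j) (p : ℕ) :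
    ∃ w : Coh.toAb (CohB1.tensorMod (K.term p) (ClSub.idealMod I)) ⟶
      Coh.toAb (CohB1.tensorMod (K.term (p + 1)) (ClSub.idealMod I)),
      w ≫ negι K I (p + 1) = negι K I p ≫ K.K.d p (p + 1) := by
  have := mono_negι hch hE K I (p + 1)
  refine exists_factor (ChB Λ E) (chB_basis hch hE) _ _ ?_
  rintro _ ⟨U, rfl, ⟨T⟩⟩ s
  refine (range_negι hch hE K I ν U T (hI U) (p + 1) (kd K p (p + 1) U.1 (vS K p (negι K I p) U.1 s))).2 ?_
  obtain ⟨z, hz⟩ := (range_negι hch hE K I ν U T (hI U) p _).1 ⟨s, rfl⟩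
  rw [la_kd, hz]
  have h1 := (strC T.C hc K T.hb).leib p (∏ j, T.C.g j ^ ν j) z
  have hδ : dS (LogNCD.der Λ) U.1 (∏ l, T.C.g l ^ ν l) = (∏ l, T.C.g l ^ ν l) • ∑ l, ν l • dl T.C l :=
    LogDG.Str.delta_prod (B := Γ(X, U.1)) (N := Sec Λ.L U.1) (δ := fun b => dS (LogNCD.der Λ) U.1 b)
      T.C.g (dl T.C) (dS_mul (LogNCD.der Λ) U.1) (dS_g T.C) ν
  rw [hδ, lwP_smul, strC_D, strC_D] at h1
  refine ⟨K913.CxLoc.D K p U z + lwP (Sec E U.1) (∑ l, ν l • dl T.C l) p z, ?_⟩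
  rw [h1, smul_add]
  rfl

include hch hE hc in
/-- **The complex `K(-B)`.** -/
theorem exists_negCx (ν : Fin r → ℕ) (I : X.IdealSheafData)
    (hI : ∀ U : X.affineOpens, I.ideal U = ∏ j, (D j).ideal U ^ ν j)
    (hac : ∀ (U : X.affineOpens) (T : ECh Λ E U), (strC T.C hc K T.hb).AcycMod (∏ j, T.C.g j ^ ν j)) :
    ∃ (P : CochainComplex (Sheaf (Opens.grothendieckTopology X) AddCommGrpCat.{u}) ℕ) (φ : P ⟶ K.K)
      (e : ∀ p, P.X p ≅ Coh.toAb (CohB1.tensorMod (K.term p) (ClSub.idealMod I))),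
      QuasiIso φ ∧ ∀ p, φ.f p = (e p).hom ≫
        (SheafOfModules.toSheaf X.ringCatSheaf).map (LogNCD.inclTwist (K.term p) I) ≫ (K.iso p).inv := by
  have := mono_negι hch hE K I
  choose w hw using exists_negD hch hE hc K ν I hI
  refine ⟨subCx K.K _ (negι K I) w hw, subCxι K.K _ (negι K I) w hw, fun p => Iso.refl _, ?_, ?_⟩
  · refine quasiIso_of_range hch hE hc K ν _ ?_ ?_ hac
    · intro U T p x hx
      have h1 : io K p U.1 (vS K p (negι K I p) U.1 x) = 0 := by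
        have : vS K p (negι K I p) U.1 x = 0 := hx
        rw [this, map_zero]
      rw [io_negι] at h1
      exact inclTwist_injective I (isFinLocFree_term hch hE K p) U.1 (h1.trans (map_zero _).symm)
    · intro U T p y
      exact range_negι hch hE K I ν U T (hI U) p y
  · intro p
    exact (Category.id_comp _).symm

end main

end K913.NegTwist
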