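import Groth.Agent.LogNCD.K913.Main

/-!
# Untwisting the logarithmic differential structure
-/

set_option autoImplicit false

open CategoryTheory CategoryTheory.Limits AlgebraicGeometry Opposite TopologicalSpace
open scoped TensorProduct
open Groth.Agent.Sga67.Sec Groth.Agent.Sga67.LocBasis

universe u w

namespace K913.Untwist

open K913.Contr K913.LogDG

section ring

variable {B N M : Type u} [CommRing B] [AddCommGroup N] [Module B N]
    [AddCommGroup M] [Module B M]

theorem lw_lw (α : N) (p : ℕ) (η : ↥(⋀[B]^p N)) : lw (B := B) α (p + 1) (lw α p η) = 0 := by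
  have hη : η ∈ Submodule.span B (Set.range (exteriorPower.ιMulti B p (M := N))) := by
    rw [exteriorPower.ιMulti_span]; trivial
  induction hη using Submodule.span_induction with
  | mem x hx =>
    obtain ⟨v, rfl⟩ := hx
    rw [lw_ιMulti, lw_ιMulti]
    exact (exteriorPower.ιMulti B (p + 2)).map_eq_zero_of_eq (Fin.cons α (Fin.cons α v)) (i := 0)
      (j := (0 : Fin (p + 1)).succ) (by simp) (by simp)
  | zero => simp
  | add x y _ _ hx hy => simp only [map_add, hx, hy, add_zero]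
  | smul a x _ hx => simp only [map_smul, hx, smul_zero]

theorem lwP_lwP (α : N) (p : ℕ) (x : M ⊗[B] ↥(⋀[B]^p N)) : lwP (B := B) M α (p + 1) (lwP M α p x) = 0 := by
  induction x using TensorProduct.induction_on with
  | zero => simp
  | tmul m η => rw [lwP_tmul, lwP_tmul, lw_lw, TensorProduct.tmul_zero]
  | add x y hx hy => simp only [map_add, hx, hy, add_zero]

variable {δ : B → N} {κ : Type w} {ω : κ → N} (L : Str M δ ω)

/-- untwist of the differential by `u` with `δ u = u • α`. -/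
noncomputable def untwist (u : B) (α : N) (hu : δ u = u • α)
    (hreg : ∀ p (x : M ⊗[B] ↥(⋀[B]^p N)), u • x = 0 → x = 0) : Str M δ ω where
  D p := L.D p - (lwP M α p).toAddMonoidHom
  DD p x := by
    have h1 := (L.twist u α hu hreg).DD p x
    rw [Str.twist_D_apply, Str.twist_D_apply, map_add, map_add, L.DD, zero_add, lwP_lwP, add_zero] at h1
    simp only [AddMonoidHom.sub_apply, LinearMap.toAddMonoidHom_coe, map_sub, L.DD, lwP_lwP]
    rw [zero_sub, sub_zero, ← neg_add', neg_eq_zero, ← h1]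
    exact add_comm _ _
  leib p b x := by
    simp only [AddMonoidHom.sub_apply, L.leib]
    simp only [LinearMap.toAddMonoidHom_coe, map_smul, smul_sub]
    abel
  na m := L.na m - m ⊗ₜ (exteriorPower.oneEquiv B N).symm α
  closed p m i := by
    rw [AddMonoidHom.sub_apply, L.closed, map_sub, LinearMap.sub_apply, twedge_eq,
      LinearEquiv.apply_symm_apply]
    rfl

theorem untwist_D_apply (u : B) (α : N) (hu : δ u = u • α)
    (hreg : ∀ p (x : M ⊗[B] ↥(⋀[B]^p N)), u • x = 0 → x = 0) (p : ℕ) (x : M ⊗[B] ↥(⋀[B]^p N)) :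
    (untwist L u α hu hreg).D p x = L.D p x - lwP M α p x := rfl

theorem ev_untwist_na (θ : Module.Dual B N) (u : B) (α : N) (hu : δ u = u • α)
    (hreg : ∀ p (x : M ⊗[B] ↥(⋀[B]^p N)), u • x = 0 → x = 0) (m : M) :
    ev θ ((untwist L u α hu hreg).na m) = ev θ (L.na m) - θ α • m := by
  change ev θ (L.na m - m ⊗ₜ (exteriorPower.oneEquiv B N).symm α) = _
  rw [map_sub, ev_tmul, LinearEquiv.apply_symm_apply]

end ring

section chart

open K913.CxLoc K913.CxStr K913.TermLoc K913.TauAff K913.Chart K913.ChartAcyc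
  K922.DSec K922.Quot K922.Tens K913.Qis K913.Main

variable {X S : Scheme.{u}} {f : X ⟶ S} {Ω' : X.Modules} {d : OmegaSh.Der f Ω'} {r : ℕ}
  {D : Fin r → X.IdealSheafData} {Λ : LogNCD.LogMod d D}
  {U : X.affineOpens} (C : Ch Λ U) {E : X.Modules} (hE : FlatMod.IsFinLocFree E)
  {nabla : Coh.toAb E ⟶ Coh.toAb (CohB1.tensorMod E Λ.L)} (hc : ConnSh.IsConn (LogNCD.der Λ) E nabla)
  (K : ConnSh.Cx (LogNCD.der Λ) E nabla)
  {m : ℕ} {b : Fin m → Sec E U.1} (hb : IsLocBasis b)

theorem dS_prod (μ : Fin r → ℕ) :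
    dS (LogNCD.der Λ) U.1 (∏ l, C.g l ^ μ l) = (∏ l, C.g l ^ μ l) • ∑ l, μ l • dl C l :=
  LogDG.Str.delta_prod (B := Γ(X, U.1)) (N := Sec Λ.L U.1) (δ := fun b => dS (LogNCD.der Λ) U.1 b)
    C.g (dl C) (dS_mul (LogNCD.der Λ) U.1) (dS_g C) μ

include hb in
theorem reg_prod (μ : Fin r → ℕ) (p : ℕ)
    (x : Sec E U.1 ⊗[Γ(X, U.1)] ↥(⋀[Γ(X, U.1)]^p (Sec Λ.L U.1))) (hx : (∏ l, C.g l ^ μ l) • x = 0) : x = 0 :=
  PU_smul_eq_zero p hb C.isLocBasis _ (prod_mem fun j _ => pow_mem (C.g_mem j) _) x hx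

/-- The untwisted structure on a chart: the one of `K(νB)`. -/
noncomputable def strU (ν : Fin r → ℕ) : LogDG.Str (B := Γ(X, U.1)) (N := Sec Λ.L U.1) (Sec E U.1)
    (fun b : Γ(X, U.1) => dS (LogNCD.der Λ) U.1 b) C.ω :=
  untwist (strC C hc K hb) _ _ (dS_prod C ν) (reg_prod C hb ν)

theorem strU_D (ν : Fin r → ℕ) (p : ℕ) (x : PU E Λ.L p U) :
    (strU C hc K hb ν).D p x = K913.CxLoc.D K p U x - lwP (Sec E U.1) (∑ l, ν l • dl C l) p x := rfl

include hE in
/-- Acyclicity modulo `g^ν` of the untwisted structure, from the residue condition. -/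
theorem acycMod_strU (hL : Coh.IsQCoh Λ.L) (ν : Fin r → ℕ)
    (hres : ∀ (j : Fin r) (c : ℕ), c < ν j → ResIso Λ E nabla j ((c : ℤ) - ν j)) :
    (strU C hc K hb ν).AcycMod (∏ i, C.g i ^ ν i) := by
  have hreg : ∀ i p (x : Sec E U.1 ⊗[Γ(X, U.1)] ↥(⋀[Γ(X, U.1)]^p (Sec Λ.L U.1))), C.g i • x = 0 → x = 0 :=
    fun i p x hx => PU_smul_eq_zero p hb C.isLocBasis (C.g i) (C.g_mem i) x hx
  refine (strU C hc K hb ν).acycMod_prod C.g (dl C) (dS_mul (LogNCD.der Λ) U.1) (dS_g C) hreg ν ?_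
  intro i μ hμ
  rcases hi : C.e i with _ | k
  · apply LogDG.Str.acycMod_of_isUnit
    rw [C.none_one i hi]
    exact isUnit_one
  · obtain ⟨ρ, R, hρ, hR, hiso⟩ := hres i (μ i) hμ
    have hθ : ∀ μ : Fin r → ℕ, θ C k (∑ l, μ l • dl C l) = μ i := by
      intro μ
      rw [map_sum, Finset.sum_eq_single i]
      · rw [map_nsmul, θ_dl C i i k hi, if_pos rfl, nsmul_one]
      · intro l _ hl
        rw [map_nsmul, θ_dl C i l k hi, if_neg hl, smul_zero]
      · simp
    refine (strU C hc K hb ν).acycMod_twist_of_bijective (Mb := Sec (CohB1.tensorMod E (ClSub.quotMod (D i))) U.1)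
      (appS (toQuot E (D i)) U.1) (span_ω C) (θ C k) (θ_ω' C k)
      (toQuot_surjective (D i) hE U) (C.g i) (toQuot_eq_zero (D i) hE U (C.g i) (C.ideal_eq i)) ?_
      (dl C i) (dS_g C i) (appS (R + (-(ν i : ℤ)) • 𝟙 _) U.1) ?_ _ _ _ _ (μ i) (hθ μ) ?_
    · intro e
      exact toQuot_smul_eq_zero (D i) U (C.g i) (by rw [C.ideal_eq]; exact Ideal.mem_span_singleton_self _) e
    · intro e
      have h1 : appS ρ U.1 e = appS R U.1 (appS (toQuot E (D i)) U.1 e) := by
        rw [← hR, ← Category.assoc, appS_comp]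
        rfl
      have h2 : ev (θ C k) ((strU C hc K hb ν).na e) = ev (θ C k) (na K U e) - (ν i : Γ(X, U.1)) • e := by
        rw [← hθ ν]
        exact ev_untwist_na _ _ _ _ _ _ _
      rw [h2, appS_add, appS_zsmul, appS_id]
      simp only [map_sub, map_smul]
      rw [← h1, residue_na C hE K i k hi hL ρ hρ, neg_smul, natCast_zsmul, Nat.cast_smul_eq_nsmul,
        sub_eq_add_neg]
    · have h2 := bijective_appS (R + ((μ i : ℤ) - ν i) • 𝟙 (CohB1.tensorMod E (ClSub.quotMod (D i)))) U.1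
      convert h2 using 1
      ext s
      rw [LinearMap.add_apply, LinearMap.smul_apply, LinearMap.id_apply, appS_add, appS_add, appS_zsmul,
        appS_zsmul, sub_smul, neg_smul, natCast_zsmul, natCast_zsmul, appS_id]
      abel

end chart

end K913.Untwist
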