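import Groth.Agent.LogNCD.K913.Jst
import Groth.Agent.LogNCD.K913.Untwist
import Groth.Agent.LogNCD.K913.NegTwist

/-!
# The complex `K(B)` containing a logarithmic de Rham complex
-/

set_option autoImplicit false

universe u w

open CategoryTheory CategoryTheory.Limits AlgebraicGeometry Opposite TopologicalSpace
open scoped TensorProduct
open Groth.Agent.Sga67.Sec Groth.Agent.Sga67.LocBasis

namespace K913.PosTwist

open K913.Contr K913.LogDG K913.CxLoc K913.CxStr K913.TermLoc K913.TauAff K913.Chart K913.ChartAcyc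
  K922.DSec K922.Quot K922.Tens K913.Qis K913.Main K913.Factor K913.Jst K913.Untwist K913.NegTwist

variable {X S : Scheme.{u}} {f : X ⟶ S} {Ω' : X.Modules} {d : OmegaSh.Der f Ω'} {r : ℕ}

/-- the complement of the divisor -/
def Wc (D : Fin r → X.IdealSheafData) : X.Opens :=
  ⟨{x | ∀ i, x ∉ (D i).support}, by
    have h : {x | ∀ i, x ∉ (D i).support} = (⋃ i, ((D i).support : Set X))ᶜ := by
      ext x
      simp
    rw [h]
    exact (isClosed_iUnion_of_finite fun i => (D i).support.isClosed).isOpen_compl⟩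

variable {D : Fin r → X.IdealSheafData} {Λ : LogNCD.LogMod d D}

theorem inf_chart {U : X.affineOpens} (C : Ch Λ U) : Wc D ⊓ U.1 = (V C).1 := by
  have h : ∀ (s : Finset (Fin r)) (x : X), x ∈ U.1 →
      (x ∈ X.basicOpen (∏ i ∈ s, C.g i) ↔ ∀ i ∈ s, x ∈ X.basicOpen (C.g i)) := by
    intro s x hx
    classical
    induction s using Finset.induction_on with
    | empty => simp [hx]
    | insert i s hi ih =>
      rw [Finset.prod_insert hi, Scheme.basicOpen_mul]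
      change (x ∈ X.basicOpen (C.g i) ∧ x ∈ X.basicOpen (∏ i ∈ s, C.g i)) ↔ _
      rw [ih, Finset.forall_mem_insert]
  ext x
  constructor
  · rintro ⟨hx, hxU⟩
    refine (h Finset.univ x hxU).2 fun i _ => ?_
    by_contra hcon
    exact hx i ((K922.Chart.mem_support_iff_span (D i) U (C.g i) (C.ideal_eq i) x hxU).2 hcon)
  · intro hx
    have hxU : x ∈ U.1 := X.basicOpen_le _ hx
    refine ⟨fun i hi => ?_, hxU⟩
    exact (K922.Chart.mem_support_iff_span (D i) U (C.g i) (C.ideal_eq i) x hxU).1 hi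
      ((h Finset.univ x hxU).1 hx i (Finset.mem_univ i))

section main

variable (hch : HasCharts Λ)
  {E : X.Modules} (hE : FlatMod.IsFinLocFree E)
  {nabla : Coh.toAb E ⟶ Coh.toAb (CohB1.tensorMod E Λ.L)} (hc : ConnSh.IsConn (LogNCD.der Λ) E nabla)
  (K : ConnSh.Cx (LogNCD.der Λ) E nabla)
  (Fm : ℕ → X.Modules) (k : ∀ p, K.term p ⟶ Fm p) (ν : Fin r → ℕ)
  (hk : ∀ (p : ℕ) (U : X.affineOpens) (T : ECh Λ E U),
    ∃ J : Sec (K.term p) U.1 ≃ₗ[Γ(X, U.1)] Sec (Fm p) U.1,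
      ∀ s, appS (k p) U.1 s = (∏ j, T.C.g j ^ ν j) • J s)
  (hkW : ∀ (p : ℕ) (V : X.Opens), V ≤ Wc D → Function.Bijective (appS (k p) V))

theorem V_le_Wc {U : X.affineOpens} (C : Ch Λ U) : (V C).1 ≤ Wc D := by
  rw [← inf_chart C]
  exact inf_le_left

theorem isUnit_resO_prod {U : X.affineOpens} (C : Ch Λ U) :
    IsUnit (resO X (V_le C) (∏ j, C.g j ^ ν j)) := by
  rw [map_prod]
  refine IsUnit.prod_iff.2 fun i _ => ?_
  rw [map_pow]
  exact (isUnit_resO_g C i).pow _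

include hkW in
theorem key {U : X.affineOpens} (T : ECh Λ E U) (p : ℕ)
    (J : Sec (K.term p) U.1 ≃ₗ[Γ(X, U.1)] Sec (Fm p) U.1)
    (hJ : ∀ s, appS (k p) U.1 s = (∏ j, T.C.g j ^ ν j) • J s)
    (J' : Sec (K.term (p + 1)) U.1 ≃ₗ[Γ(X, U.1)] Sec (Fm (p + 1)) U.1)
    (hJ' : ∀ s, appS (k (p + 1)) U.1 s = (∏ j, T.C.g j ^ ν j) • J' s)
    (x : Sec (K.term p) U.1) (z : KS K p (V T.C).1)
    (hz : appS (k p) (V T.C).1 (io K p _ z) = res (Fm p) (V_le T.C) (J x)) :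
    appS (k (p + 1)) (V T.C).1 (io K (p + 1) _ (kd K p (p + 1) _ z)) =
      res (Fm (p + 1)) (V_le T.C) (J' ((lo K (p + 1) U).symm ((strU T.C hc K T.hb ν).D p (lo K p U x)))) := by
  have hWV := V_le_Wc T.C
  -- `G z = x` on `V`
  have h1 : resO X (V_le T.C) (∏ j, T.C.g j ^ ν j) • io K p _ z = res (K.term p) (V_le T.C) x := by
    apply (hkW p _ hWV).1
    rw [map_smul, hz, ← res_smul, ← hJ, appS_res]
  have h2 : resO X (V_le T.C) (∏ j, T.C.g j ^ ν j) • la K p (V T.C) z = rP K p (V_le T.C) (lo K p U x) := by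
    rw [la_apply, rP_apply, LinearEquiv.symm_apply_apply, ← h1, map_smul]
  have h3 := congrArg (K913.CxLoc.D K p (V T.C)) h2
  have h4 : res Λ.L (V_le T.C) (dS (LogNCD.der Λ) U.1 (∏ j, T.C.g j ^ ν j)) =
      resO X (V_le T.C) (∏ j, T.C.g j ^ ν j) • res Λ.L (V_le T.C) (∑ l, ν l • dl T.C l) := by
    rw [dS_prod, res_smul]
  have h4' : lwP (Sec E (V T.C).1) (dS (LogNCD.der Λ) (V T.C).1 (resO X (V_le T.C) (∏ j, T.C.g j ^ ν j))) p
      (la K p (V T.C) z) = rP K (p + 1) (V_le T.C) (lwP (Sec E U.1) (∑ l, ν l • dl T.C l) p (lo K p U x)) := by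
    have h5 := dS_res (LogNCD.der Λ) (V_le T.C) (∏ j, T.C.g j ^ ν j)
    rw [rP_lwP, ← h2, map_smul, ← h5, h4, lwP_smul]
    rfl
  rw [D_smul_gen K hc (gen_V T.C), h4', ← rP_D, ← eq_sub_iff_add_eq] at h3
  have h3' : resO X (V_le T.C) (∏ j, T.C.g j ^ ν j) • K913.CxLoc.D K p (V T.C) (la K p (V T.C) z) =
      rP K (p + 1) (V_le T.C) ((strU T.C hc K T.hb ν).D p (lo K p U x)) := by
    rw [h3, strU_D T.C hc K T.hb, map_sub]
  -- `G d z = y'` on `V`
  have h5 : resO X (V_le T.C) (∏ j, T.C.g j ^ ν j) • io K (p + 1) _ (kd K p (p + 1) _ z) =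
      res (K.term (p + 1)) (V_le T.C) ((lo K (p + 1) U).symm ((strU T.C hc K T.hb ν).D p (lo K p U x))) := by
    apply (lo K (p + 1) (V T.C)).injective
    rw [map_smul, ← la_apply, la_kd, h3', rP_apply]
  obtain ⟨uu, huu⟩ := (isUnit_resO_prod ν T.C)
  have h6 : resO X (V_le T.C) (∏ j, T.C.g j ^ ν j) •
      appS (k (p + 1)) (V T.C).1 (io K (p + 1) _ (kd K p (p + 1) _ z)) =
      resO X (V_le T.C) (∏ j, T.C.g j ^ ν j) •
      res (Fm (p + 1)) (V_le T.C) (J' ((lo K (p + 1) U).symm ((strU T.C hc K T.hb ν).D p (lo K p U x)))) := by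
    rw [← map_smul, h5, appS_res, hJ', res_smul]
  rw [← huu] at h6
  have h7 := congrArg (fun t => (↑uu⁻¹ : Γ(X, (V T.C).1)) • t) h6
  simpa only [smul_smul, Units.inv_mul, one_smul] using h7

/-- `K_p → F_p` -/
noncomputable def κ (p : ℕ) : K.K.X p ⟶ Coh.toAb (Fm p) :=
  (K.iso p).hom ≫ (SheafOfModules.toSheaf X.ringCatSheaf).map (k p)

theorem κ_apply (p : ℕ) (U : X.Opens) (x : KS K p U) :
    (κ K Fm k p).hom.app (op U) x = appS (k p) U (io K p U x) := rfl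

include hkW in
theorem isIso_Jκ (p : ℕ) : IsIso ((J (Wc D)).map (κ K Fm k p)) := by
  apply isIso_J_map
  intro V hV
  exact (hkW p V hV).comp (io K p V).bijective

include hk hkW in
theorem res_eq_zero {U : X.affineOpens} (T : ECh Λ E U) (p : ℕ) (s : Sec (Fm p) U.1)
    (hs : res (Fm p) (V_le T.C) s = 0) : s = 0 := by
  obtain ⟨J, hJ⟩ := hk p U T
  obtain ⟨x, rfl⟩ := J.surjective s
  have h1 : appS (k p) (V T.C).1 (res (K.term p) (V_le T.C) x) = 0 := by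
    rw [appS_res, hJ, res_smul, hs, smul_zero]
  have h2 := (hkW p _ (V_le_Wc T.C)).1 (h1.trans (map_zero _).symm)
  have h3 := res_injective (M := K.term p) (V_le T.C) (isLocBasis_term K p T.hb T.C.isLocBasis)
    (K913.ChartAcyc.resO_injective T.C) (h2.trans (map_zero _).symm)
  rw [h3, map_zero]

include hk hkW in
theorem eq_of_res {U : X.affineOpens} (T : ECh Λ E U) (p : ℕ) {V' : X.Opens} (hV' : V' = (V T.C).1)
    (h : V' ≤ U.1) (s t : Sec (Fm p) U.1) (hs : res (Fm p) h s = res (Fm p) h t) : s = t := by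
  subst hV'
  rw [← sub_eq_zero]
  apply res_eq_zero K Fm k ν hk hkW T p
  rw [map_sub]
  exact sub_eq_zero.2 hs

theorem res_congr (M : X.Modules) {U V V' : X.Opens} (h : V ≤ U) (h' : V' ≤ U) (e : V = V') (s : Sec M U)
    (hs : res M h s = 0) : res M h' s = 0 := by
  subst e
  exact hs

include hch hE hk hkW in
theorem mono_ηF (p : ℕ) : Mono ((η (Wc D)).app (Coh.toAb (Fm p))) := by
  refine mono_η (Wc D) _ (ChB Λ E) (chB_basis hch hE) ?_
  rintro _ ⟨U, rfl, ⟨T⟩⟩ s hs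
  exact res_eq_zero K Fm k ν hk hkW T p s
    (res_congr (Fm p) (inf_le_right : Wc D ⊓ U.1 ≤ U.1) (V_le T.C) (inf_chart T.C) s hs)

/-- transport of `key` to `W ∩ U` -/
theorem key' {U : X.affineOpens} (T : ECh Λ E U) (p : ℕ)
    (hkW : ∀ (p : ℕ) (V : X.Opens), V ≤ Wc D → Function.Bijective (appS (k p) V))
    (J : Sec (K.term p) U.1 ≃ₗ[Γ(X, U.1)] Sec (Fm p) U.1)
    (hJ : ∀ s, appS (k p) U.1 s = (∏ j, T.C.g j ^ ν j) • J s)
    (J' : Sec (K.term (p + 1)) U.1 ≃ₗ[Γ(X, U.1)] Sec (Fm (p + 1)) U.1)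
    (hJ' : ∀ s, appS (k (p + 1)) U.1 s = (∏ j, T.C.g j ^ ν j) • J' s)
    (x : Sec (K.term p) U.1) (V' : X.Opens) (hV' : V' = (V T.C).1) (h : V' ≤ U.1) (z : KS K p V')
    (hz : appS (k p) V' (io K p _ z) = res (Fm p) h (J x)) :
    appS (k (p + 1)) V' (io K (p + 1) _ (kd K p (p + 1) _ z)) =
      res (Fm (p + 1)) h (J' ((lo K (p + 1) U).symm ((strU T.C hc K T.hb ν).D p (lo K p U x)))) := by
  subst hV'
  exact key hc K Fm k ν hkW T p J hJ J' hJ' x z hz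

include hch hE hc hk in
/-- The differential of `K(B)`. -/
theorem exists_posD (hkW : ∀ (p : ℕ) (V : X.Opens), V ≤ Wc D → Function.Bijective (appS (k p) V)) (p : ℕ) :
    haveI := isIso_Jκ K Fm k hkW
    ∃ w : Coh.toAb (Fm p) ⟶ Coh.toAb (Fm (p + 1)),
      (w ≫ (η (Wc D)).app (Coh.toAb (Fm (p + 1))) =
        (η (Wc D)).app (Coh.toAb (Fm p)) ≫ inv ((J (Wc D)).map (κ K Fm k p)) ≫
          (J (Wc D)).map (K.K.d p (p + 1)) ≫ (J (Wc D)).map (κ K Fm k (p + 1))) := by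
  have := isIso_Jκ K Fm k hkW
  have := mono_ηF hch hE K Fm k ν hk hkW (p + 1)
  refine exists_factor (ChB Λ E) (chB_basis hch hE) _ _ ?_
  rintro _ ⟨U, rfl, ⟨T⟩⟩ s
  obtain ⟨J₀, hJ₀⟩ := hk p U T
  obtain ⟨J', hJ'⟩ := hk (p + 1) U T
  obtain ⟨x, rfl⟩ := J₀.surjective s
  refine ⟨J' ((lo K (p + 1) U).symm ((strU T.C hc K T.hb ν).D p (lo K p U x))), ?_⟩
  let z : KS K p (Wc D ⊓ U.1) := (inv ((J (Wc D)).map (κ K Fm k p))).hom.app (op U.1)
    (((η (Wc D)).app (Coh.toAb (Fm p))).hom.app (op U.1) (J₀ x))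
  have hz : appS (k p) (Wc D ⊓ U.1) (io K p _ z) = res (Fm p) (inf_le_right : Wc D ⊓ U.1 ≤ U.1) (J₀ x) := by
    have h1 := congrArg (fun ψ => ψ.hom.app (op U.1)) (IsIso.inv_hom_id ((J (Wc D)).map (κ K Fm k p)))
    exact ConcreteCategory.congr_hom h1 (((η (Wc D)).app (Coh.toAb (Fm p))).hom.app (op U.1) (J₀ x))
  exact (key' hc K Fm k ν T p hkW J₀ hJ₀ J' hJ' x (Wc D ⊓ U.1) (inf_chart T.C) inf_le_right z hz).symm

include hch hE hc hk hkW in
/-- **The complex `K(B)`.** -/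
theorem exists_posCx
    (hac : ∀ (U : X.affineOpens) (T : ECh Λ E U), (strU T.C hc K T.hb ν).AcycMod (∏ j, T.C.g j ^ ν j)) :
    ∃ (P : CochainComplex (Sheaf (Opens.grothendieckTopology X) AddCommGrpCat.{u}) ℕ) (φ : K.K ⟶ P)
      (e : ∀ p, P.X p ≅ Coh.toAb (Fm p)), QuasiIso φ ∧
        ∀ p, φ.f p = (K.iso p).hom ≫ (SheafOfModules.toSheaf X.ringCatSheaf).map (k p) ≫ (e p).inv := by
  have h1 := isIso_Jκ K Fm k hkW
  have h2 := mono_ηF hch hE K Fm k ν hk hkW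
  choose w hw using exists_posD hch hE hc K Fm k ν hk hkW
  refine ⟨overCx (Wc D) K.K (fun p => Coh.toAb (Fm p)) (κ K Fm k) w hw, overCxι (Wc D) K.K _ (κ K Fm k) w hw,
    fun p => Iso.refl _, ?_, ?_⟩
  · -- the differential on charts
    have hd : ∀ (U : X.affineOpens) (T : ECh Λ E U) (p : ℕ)
        (J₀ : Sec (K.term p) U.1 ≃ₗ[Γ(X, U.1)] Sec (Fm p) U.1)
        (_ : ∀ s, appS (k p) U.1 s = (∏ j, T.C.g j ^ ν j) • J₀ s)
        (J' : Sec (K.term (p + 1)) U.1 ≃ₗ[Γ(X, U.1)] Sec (Fm (p + 1)) U.1)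
        (_ : ∀ s, appS (k (p + 1)) U.1 s = (∏ j, T.C.g j ^ ν j) • J' s)
        (x : Sec (K.term p) U.1),
        (w p).hom.app (op U.1) (J₀ x) =
          J' ((lo K (p + 1) U).symm ((strU T.C hc K T.hb ν).D p (lo K p U x))) := by
      intro U T p J₀ hJ₀ J' hJ' x
      refine eq_of_res K Fm k ν hk hkW T (p + 1) (inf_chart T.C) (inf_le_right : Wc D ⊓ U.1 ≤ U.1)
        ((w p).hom.app (op U.1) (J₀ x))
        (J' ((lo K (p + 1) U).symm ((strU T.C hc K T.hb ν).D p (lo K p U x)))) ?_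
      let z : KS K p (Wc D ⊓ U.1) := (inv ((J (Wc D)).map (κ K Fm k p))).hom.app (op U.1)
        (((η (Wc D)).app (Coh.toAb (Fm p))).hom.app (op U.1) (J₀ x))
      have hz : appS (k p) (Wc D ⊓ U.1) (io K p _ z) =
          res (Fm p) (inf_le_right : Wc D ⊓ U.1 ≤ U.1) (J₀ x) := by
        have h1 := congrArg (fun ψ => ψ.hom.app (op U.1)) (IsIso.inv_hom_id ((J (Wc D)).map (κ K Fm k p)))
        exact ConcreteCategory.congr_hom h1 (((η (Wc D)).app (Coh.toAb (Fm p))).hom.app (op U.1) (J₀ x))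
      have h3 := key' hc K Fm k ν T p hkW J₀ hJ₀ J' hJ' x (Wc D ⊓ U.1) (inf_chart T.C) inf_le_right z hz
      have h4 := congrArg (fun ψ => ψ.hom.app (op U.1)) (hw p)
      exact (ConcreteCategory.congr_hom h4 (J₀ x)).trans h3
    refine K913.QisBasis.quasiIso_of_basis _ (ChB Λ E) (chB_basis hch hE) ?_ ?_ ?_
    · rintro _ ⟨U, rfl, ⟨T⟩⟩ p x hx
      obtain ⟨J₀, hJ₀⟩ := hk p U T
      have h3 : appS (k p) U.1 (io K p U.1 x) = 0 := hx
      rw [hJ₀, ← map_smul, LinearEquiv.map_eq_zero_iff] at h3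
      have h4 : (∏ j, T.C.g j ^ ν j) • la K p U x = 0 := by
        rw [la_apply, ← map_smul, h3, map_zero]
      have h5 := reg_prod T.C T.hb ν p _ h4
      exact (AddEquiv.map_eq_zero_iff _).1 h5
    · rintro _ ⟨U, rfl, ⟨T⟩⟩ y w' hyw
      obtain ⟨J₀, hJ₀⟩ := hk 0 U T
      obtain ⟨J₁, hJ₁⟩ := hk 1 U T
      obtain ⟨x, rfl⟩ := J₀.surjective y
      rw [overCx_d] at hyw
      have h3 : J₁ ((lo K 1 U).symm ((strU T.C hc K T.hb ν).D 0 (lo K 0 U x))) =
          appS (k 1) U.1 (io K 1 U.1 w') := (hd U T 0 J₀ hJ₀ J₁ hJ₁ x).symm.trans hyw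
      rw [hJ₁, ← map_smul] at h3
      have h4 := J₁.injective h3
      have h5 : (strU T.C hc K T.hb ν).D 0 (lo K 0 U x) = (∏ j, T.C.g j ^ ν j) • la K 1 U w' := by
        rw [la_apply, ← map_smul, ← h4, LinearEquiv.apply_symm_apply]
      obtain ⟨z, hz⟩ := (hac U T).1 _ _ h5
      refine ⟨(la K 0 U).symm z, ?_⟩
      change J₀ x = appS (k 0) U.1 (io K 0 U.1 ((la K 0 U).symm z))
      rw [hJ₀, ← map_smul]
      congr 1
      apply (lo K 0 U).injective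
      rw [map_smul, ← la_apply, AddEquiv.apply_symm_apply, hz]
    · rintro _ ⟨U, rfl, ⟨T⟩⟩ p y w' hyw
      obtain ⟨J₀, hJ₀⟩ := hk p U T
      obtain ⟨J₁, hJ₁⟩ := hk (p + 1) U T
      obtain ⟨J₂, hJ₂⟩ := hk (p + 2) U T
      obtain ⟨x, rfl⟩ := J₁.surjective y
      rw [overCx_d] at hyw
      have h3 : J₂ ((lo K (p + 2) U).symm ((strU T.C hc K T.hb ν).D (p + 1) (lo K (p + 1) U x))) =
          appS (k (p + 2)) U.1 (io K (p + 2) U.1 w') := (hd U T (p + 1) J₁ hJ₁ J₂ hJ₂ x).symm.trans hyw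
      rw [hJ₂, ← map_smul] at h3
      have h4 := J₂.injective h3
      have h5 : (strU T.C hc K T.hb ν).D (p + 1) (lo K (p + 1) U x) =
          (∏ j, T.C.g j ^ ν j) • la K (p + 2) U w' := by
        rw [la_apply, ← map_smul, ← h4, LinearEquiv.apply_symm_apply]
      obtain ⟨c, z, hz⟩ := (hac U T).2 p _ _ h5
      refine ⟨J₀ ((lo K p U).symm c), (la K (p + 1) U).symm z, ?_⟩
      rw [overCx_d]
      have h6 := hd U T p J₀ hJ₀ J₁ hJ₁ ((lo K p U).symm c)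
      rw [LinearEquiv.apply_symm_apply] at h6
      have h7 : (κ K Fm k (p + 1)).hom.app (op U.1) ((la K (p + 1) U).symm z) =
          J₁ ((lo K (p + 1) U).symm ((∏ j, T.C.g j ^ ν j) • z)) := by
        change appS (k (p + 1)) U.1 (io K (p + 1) U.1 ((la K (p + 1) U).symm z)) = _
        rw [hJ₁, ← map_smul]
        congr 1
        apply (lo K (p + 1) U).injective
        rw [map_smul, ← la_apply, AddEquiv.apply_symm_apply, LinearEquiv.apply_symm_apply]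
      have h8 : J₁ x = J₁ ((lo K (p + 1) U).symm ((strU T.C hc K T.hb ν).D p c)) +
          J₁ ((lo K (p + 1) U).symm ((∏ j, T.C.g j ^ ν j) • z)) := by
        rw [← map_add, ← map_add, ← hz, LinearEquiv.symm_apply_apply]
      exact h8.trans (congrArg₂ (· + ·) h6.symm h7.symm)
  · intro p
    change κ K Fm k p = _ ≫ _ ≫ 𝟙 _
    rw [Category.comp_id]
    rfl

end main

end K913.PosTwist
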