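import Groth.Agent.Sga4A.LocQis
import Mathlib.Topology.Sheaves.Sheaf
import Mathlib.Algebra.Homology.Additive

/-!
# Quasi-isomorphisms of complexes of abelian sheaves, checked on a basis
-/

set_option autoImplicit false
universe u

open CategoryTheory CategoryTheory.Limits Opposite

namespace K913.QisBasis

section site

variable {C : Type u} [SmallCategory C] {J : GrothendieckTopology C}
variable {ι : Type*} {c : ComplexShape ι}

/-- the underlying complex of presheaves -/
noncomputable abbrev und (K : HomologicalComplex (Sheaf J AddCommGrpCat.{u}) c) :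
    HomologicalComplex (Cᵒᵖ ⥤ AddCommGrpCat.{u}) c :=
  ((sheafToPresheaf J AddCommGrpCat.{u}).mapHomologicalComplex c).obj K

noncomputable abbrev undMap {K L : HomologicalComplex (Sheaf J AddCommGrpCat.{u}) c} (φ : K ⟶ L) :
    und K ⟶ und L :=
  ((sheafToPresheaf J AddCommGrpCat.{u}).mapHomologicalComplex c).map φ

/-- sheafifying the underlying complex gives back the complex -/
noncomputable def counitIso :
    (sheafToPresheaf J AddCommGrpCat.{u}).mapHomologicalComplex c ⋙
      (presheafToSheaf J AddCommGrpCat.{u}).mapHomologicalComplex c ≅ 𝟭 _ :=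
  (NatIso.mapHomologicalComplex
    (asIso (sheafificationAdjunction J AddCommGrpCat.{u}).counit) c)

theorem quasiIso_of_local {K L : HomologicalComplex (Sheaf J AddCommGrpCat.{u}) c} (φ : K ⟶ L)
    (h : ∀ k, Groth.Agent.Sga4A.LocQis.LocSurj J (undMap φ) k ∧
      Groth.Agent.Sga4A.LocQis.LocInj J (undMap φ) k) : QuasiIso φ := by
  have h1 : QuasiIso (((presheafToSheaf J AddCommGrpCat.{u}).mapHomologicalComplex c).map (undMap φ)) :=
    ⟨fun k => Groth.Agent.Sga4A.LocQis.quasiIsoAt_presheafToSheaf_of_local (undMap φ) k (h k).1 (h k).2⟩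
  have e : Arrow.mk (((presheafToSheaf J AddCommGrpCat.{u}).mapHomologicalComplex c).map (undMap φ)) ≅
      Arrow.mk φ :=
    Arrow.isoMk (counitIso.app K) (counitIso.app L) (counitIso.hom.naturality φ).symm
  exact quasiIso_of_arrow_mk_iso _ _ e

end site

section top

variable {T : Type u} [TopologicalSpace T]

open TopologicalSpace

theorem cover_of_basis (𝓑 : Set (Opens T)) (hB : ∀ (U : Opens T) (x : T), x ∈ U → ∃ V ∈ 𝓑, x ∈ V ∧ V ≤ U)
    (U : Opens T) (P : ∀ V : Opens T, (V ⟶ U) → Prop) (hP : ∀ V ∈ 𝓑, ∀ f : V ⟶ U, P V f)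
    (hmono : ∀ (V W : Opens T) (f : V ⟶ U) (g : W ⟶ V), P V f → P W (g ≫ f)) :
    ∃ S ∈ Opens.grothendieckTopology T U, ∀ ⦃V : Opens T⦄ (f : V ⟶ U), S f → P V f := by
  let S : Sieve U :=
    { arrows := fun V f => ∃ W ∈ 𝓑, ∃ (g : V ⟶ W) (h : W ⟶ U), f = g ≫ h
      downward_closed := by
        rintro V V' f ⟨W, hW, g, h, rfl⟩ g'
        exact ⟨W, hW, g' ≫ g, h, (Category.assoc _ _ _).symm⟩ }
  refine ⟨S, ?_, ?_⟩
  · intro x hx
    obtain ⟨V, hV, hxV, hVU⟩ := hB U x hx
    exact ⟨V, homOfLE hVU, ⟨V, hV, 𝟙 _, homOfLE hVU, (Category.id_comp _).symm⟩, hxV⟩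
  · rintro V f ⟨W, hW, g, h, rfl⟩
    exact hmono W V h g (hP W hW h)

/-- A degreewise injective morphism of complexes of abelian sheaves whose quotient is acyclic on sections
over a basis is a quasi-isomorphism. -/
theorem quasiIso_of_basis {K L : CochainComplex (Sheaf (Opens.grothendieckTopology T) AddCommGrpCat.{u}) ℕ}
    (φ : K ⟶ L) (𝓑 : Set (Opens T))
    (hB : ∀ (U : Opens T) (x : T), x ∈ U → ∃ V ∈ 𝓑, x ∈ V ∧ V ≤ U)
    (hM : ∀ V ∈ 𝓑, ∀ (k : ℕ) (x : (K.X k).obj.obj (op V)), (φ.f k).hom.app (op V) x = 0 → x = 0)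
    (hA0 : ∀ V ∈ 𝓑, ∀ (y : (L.X 0).obj.obj (op V)) (w : (K.X 1).obj.obj (op V)),
      (L.d 0 1).hom.app (op V) y = (φ.f 1).hom.app (op V) w → ∃ z, y = (φ.f 0).hom.app (op V) z)
    (hAs : ∀ V ∈ 𝓑, ∀ (k : ℕ) (y : (L.X (k + 1)).obj.obj (op V)) (w : (K.X (k + 2)).obj.obj (op V)),
      (L.d (k + 1) (k + 2)).hom.app (op V) y = (φ.f (k + 2)).hom.app (op V) w →
        ∃ (b : (L.X k).obj.obj (op V)) (z : (K.X (k + 1)).obj.obj (op V)),
          y = (L.d k (k + 1)).hom.app (op V) b + (φ.f (k + 1)).hom.app (op V) z) :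
    QuasiIso φ := by
  have comm : ∀ (V : Opens T) (i j : ℕ) (z : (K.X i).obj.obj (op V)),
      (φ.f j).hom.app (op V) ((K.d i j).hom.app (op V) z) =
        (L.d i j).hom.app (op V) ((φ.f i).hom.app (op V) z) := by
    intro V i j z
    have := congrArg (fun ψ => ψ.hom.app (op V)) (φ.comm i j)
    exact (ConcreteCategory.congr_hom this z).symm
  have LL : ∀ (V : Opens T) (i j k : ℕ) (z : (L.X i).obj.obj (op V)),
      (L.d j k).hom.app (op V) ((L.d i j).hom.app (op V) z) = 0 := by
    intro V i j k z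
    have := congrArg (fun ψ => ψ.hom.app (op V)) (L.d_comp_d i j k)
    exact (ConcreteCategory.congr_hom this z)
  have natL : ∀ (V W : Opens T) (f : W ⟶ V) (i j : ℕ) (z : (L.X i).obj.obj (op V)),
      (L.d i j).hom.app (op W) ((L.X i).obj.map f.op z) = (L.X j).obj.map f.op ((L.d i j).hom.app (op V) z) := by
    intro V W f i j z
    exact (ConcreteCategory.congr_hom ((L.d i j).hom.naturality f.op) z)
  have natK : ∀ (V W : Opens T) (f : W ⟶ V) (i j : ℕ) (z : (K.X i).obj.obj (op V)),
      (K.d i j).hom.app (op W) ((K.X i).obj.map f.op z) = (K.X j).obj.map f.op ((K.d i j).hom.app (op V) z) := by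
    intro V W f i j z
    exact (ConcreteCategory.congr_hom ((K.d i j).hom.naturality f.op) z)
  have natφ : ∀ (V W : Opens T) (f : W ⟶ V) (i : ℕ) (z : (K.X i).obj.obj (op V)),
      (φ.f i).hom.app (op W) ((K.X i).obj.map f.op z) = (L.X i).obj.map f.op ((φ.f i).hom.app (op V) z) := by
    intro V W f i z
    exact (ConcreteCategory.congr_hom ((φ.f i).hom.naturality f.op) z)
  have mapmap : ∀ (F : Sheaf (Opens.grothendieckTopology T) AddCommGrpCat.{u}) (U V W : Opens T)
      (f : V ⟶ U) (g : W ⟶ V) (z : F.obj.obj (op U)), F.obj.map g.op (F.obj.map f.op z) = F.obj.map (g ≫ f).op z := by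
    intro F U V W f g z
    rw [op_comp, F.obj.map_comp]
    rfl
  apply quasiIso_of_local
  intro k
  refine ⟨?_, ?_⟩
  · -- local surjectivity
    intro U y hy
    change (L.d k ((ComplexShape.up ℕ).next k)).hom.app (op U) y = 0 at hy
    refine cover_of_basis 𝓑 hB U
      (fun V f => ∃ x : (K.X k).obj.obj (op V),
        (K.d k ((ComplexShape.up ℕ).next k)).hom.app (op V) x = 0 ∧
        ∃ b : (L.X ((ComplexShape.up ℕ).prev k)).obj.obj (op V),
          (φ.f k).hom.app (op V) x = (L.X k).obj.map f.op y +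
            (L.d ((ComplexShape.up ℕ).prev k) k).hom.app (op V) b) ?_ ?_
    · intro V hV f
      have hy' : (L.d k ((ComplexShape.up ℕ).next k)).hom.app (op V) ((L.X k).obj.map f.op y) = 0 := by
        rw [natL, hy, map_zero]
      change ∃ x : (K.X k).obj.obj (op V),
        (K.d k ((ComplexShape.up ℕ).next k)).hom.app (op V) x = 0 ∧
        ∃ b : (L.X ((ComplexShape.up ℕ).prev k)).obj.obj (op V),
          (φ.f k).hom.app (op V) x = (L.X k).obj.map f.op y +
            (L.d ((ComplexShape.up ℕ).prev k) k).hom.app (op V) b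
      generalize (L.X k).obj.map f.op y = y' at *
      have hn : (ComplexShape.up ℕ).next k = k + 1 := CochainComplex.next ℕ k
      generalize (ComplexShape.up ℕ).next k = n at *
      subst hn
      rcases k with _ | k
      · obtain ⟨z, rfl⟩ := hA0 V hV y' 0 (by rw [hy', map_zero])
        refine ⟨z, ?_, 0, by simp⟩
        apply hM V hV
        rw [comm, hy']
      · have hp : (ComplexShape.up ℕ).prev (k + 1) = k := CochainComplex.prev_nat_succ k
        generalize (ComplexShape.up ℕ).prev (k + 1) = p at *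
        subst hp
        obtain ⟨b, z, rfl⟩ := hAs V hV p y' 0 (by rw [hy', map_zero])
        refine ⟨z, ?_, -b, ?_⟩
        · apply hM V hV
          rw [comm]
          rw [map_add, LL, zero_add] at hy'
          exact hy'
        · rw [map_neg]; abel
    · rintro V W f g ⟨x, hx, b, hb⟩
      refine ⟨(K.X k).obj.map g.op x, ?_, (L.X _).obj.map g.op b, ?_⟩
      · rw [natK, hx, map_zero]
      · rw [natφ, hb, natL, map_add, mapmap]
  · -- local injectivity
    intro U x hx b hb
    change (K.d k ((ComplexShape.up ℕ).next k)).hom.app (op U) x = 0 at hx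
    change (φ.f k).hom.app (op U) x = (L.d ((ComplexShape.up ℕ).prev k) k).hom.app (op U) b at hb
    refine cover_of_basis 𝓑 hB U
      (fun V f => ∃ b' : (K.X ((ComplexShape.up ℕ).prev k)).obj.obj (op V),
        (K.d ((ComplexShape.up ℕ).prev k) k).hom.app (op V) b' = (K.X k).obj.map f.op x) ?_ ?_
    · intro V hV f
      have hb' : (φ.f k).hom.app (op V) ((K.X k).obj.map f.op x) =
          (L.d ((ComplexShape.up ℕ).prev k) k).hom.app (op V) ((L.X _).obj.map f.op b) := by
        rw [natφ, hb, natL]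
      change ∃ b' : (K.X ((ComplexShape.up ℕ).prev k)).obj.obj (op V),
        (K.d ((ComplexShape.up ℕ).prev k) k).hom.app (op V) b' = (K.X k).obj.map f.op x
      generalize (K.X k).obj.map f.op x = x' at *
      generalize (L.X _).obj.map f.op b = c at *
      rcases k with _ | k
      · refine ⟨0, ?_⟩
        rw [map_zero]
        symm
        apply hM V hV
        rw [hb', (L.shape _ _ (by simp [CochainComplex.prev_nat_zero]))]
        rfl
      · have hp : (ComplexShape.up ℕ).prev (k + 1) = k := CochainComplex.prev_nat_succ k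
        generalize (ComplexShape.up ℕ).prev (k + 1) = p at *
        subst hp
        rcases p with _ | p
        · obtain ⟨z, rfl⟩ := hA0 V hV c x' hb'.symm
          refine ⟨z, ?_⟩
          rw [← sub_eq_zero]
          apply hM V hV
          rw [map_sub, comm, hb', sub_self]
        · obtain ⟨a, z, rfl⟩ := hAs V hV p c x' hb'.symm
          refine ⟨z, ?_⟩
          rw [← sub_eq_zero]
          apply hM V hV
          rw [map_sub, comm, hb', map_add, LL, zero_add, sub_self]
    · rintro V W f g ⟨b', hb'⟩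
      refine ⟨(K.X _).obj.map g.op b', ?_⟩
      rw [natK, hb', mapmap]

end top

end K913.QisBasis
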