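import Groth.Agent.LogNCD.K913.ChartAcyc
import Groth.Agent.LogNCD.K913.QisBasis

/-!
# The inclusion of the twisted logarithmic de Rham complex is a quasi-isomorphism, from acyclicity on charts
-/

set_option autoImplicit false

universe u w

open CategoryTheory CategoryTheory.Limits AlgebraicGeometry Opposite TopologicalSpace
open scoped TensorProduct
open Groth.Agent.Sga67.Sec Groth.Agent.Sga67.LocBasis

namespace K913.Qis

open K913.Contr K913.LogDG K913.CxLoc K913.CxStr K913.TermLoc K913.TauAff K913.Chart K913.ChartAcyc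
  K922.DSec K922.Quot K922.Tens

variable {X S : Scheme.{u}} {f : X ⟶ S} {L : X.Modules} {δ : OmegaSh.Der f L}

section maps

variable {E : X.Modules} (hE : FlatMod.IsFinLocFree E) (I : X.IdealSheafData)

/-- the map `E(-B) ⊗ ⋀^p → E ⊗ ⋀^p` over affine opens -/
noncomputable def Psi (L E : X.Modules) (I : X.IdealSheafData) (p : ℕ) (U : X.affineOpens) :
    PU (CohB1.tensorMod E (ClSub.idealMod I)) L p U →ₗ[Γ(X, U.1)] PU E L p U :=
  LinearMap.rTensor _ (appS (LogNCD.inclTwist E I) U.1)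

theorem Psi_tmul (p : ℕ) (U : X.affineOpens) (s : Sec (CohB1.tensorMod E (ClSub.idealMod I)) U.1)
    (η : ↥(⋀[Γ(X, U.1)]^p (Sec L U.1))) :
    Psi L E I p U (s ⊗ₜ η) = appS (LogNCD.inclTwist E I) U.1 s ⊗ₜ η := rfl

include hE in
theorem exists_Psi_equiv (U : X.affineOpens) (G : Γ(X, U.1)) (hG : I.ideal U = Ideal.span {G})
    (hreg : ∀ e : Sec E U.1, G • e = 0 → e = 0) (p : ℕ) :
    ∃ J : PU (CohB1.tensorMod E (ClSub.idealMod I)) L p U ≃ₗ[Γ(X, U.1)] PU E L p U,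
      ∀ x, Psi L E I p U x = G • J x := by
  obtain ⟨j, hj⟩ := exists_j I U G hG hreg hE
  refine ⟨LinearEquiv.rTensor _ j, fun x => ?_⟩
  have h1 : appS (LogNCD.inclTwist E I) U.1 = G • j.toLinearMap := by
    ext s
    exact hj s
  rw [Psi, h1, LinearMap.rTensor_smul]
  rfl

variable {nabla : Coh.toAb E ⟶ Coh.toAb (CohB1.tensorMod E L)} (K : ConnSh.Cx δ E nabla)
  {nabla' : Coh.toAb (CohB1.tensorMod E (ClSub.idealMod I)) ⟶
    Coh.toAb (CohB1.tensorMod (CohB1.tensorMod E (ClSub.idealMod I)) L)}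
  (K' : ConnSh.Cx δ (CohB1.tensorMod E (ClSub.idealMod I)) nabla')
  (φ : K'.K ⟶ K.K) (ψ : ∀ p : ℕ, K'.term p ⟶ K.term p)
  (hφ : ∀ p : ℕ, φ.f p = (K'.iso p).hom ≫ (SheafOfModules.toSheaf X.ringCatSheaf).map (ψ p) ≫ (K.iso p).inv)
  (hψ : ∀ (p : ℕ) (U : X.affineOpens) (e : Γ(E, U.1)) (g : (ClSub.idealMod I).val.obj (op U.1))
      (ω : Fin p → Γ(L, U.1)),
      (ψ p).app U.1 ((K'.loc p U).symm
        (SecTwist.tmul (E) (ClSub.idealMod I) U.1 e g ⊗ₜ exteriorPower.ιMulti _ p ω)) =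
      (K.loc p U).symm ((OmegaSh.idealSect I U.1 g • e) ⊗ₜ exteriorPower.ιMulti _ p ω))

include hE hψ in
theorem appS_ψ (p : ℕ) (U : X.affineOpens) (x : PU (CohB1.tensorMod E (ClSub.idealMod I)) L p U) :
    appS (ψ p) U.1 ((lo K' p U).symm x) = (lo K p U).symm (Psi L E I p U x) := by
  refine induction_PU p U (fun x => appS (ψ p) U.1 ((lo K' p U).symm x) = (lo K p U).symm (Psi L E I p U x))
    ?_ ?_ ?_ x
  · simp
  · intro x y hx hy
    simp only [map_add, hx, hy]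
  · intro s ω
    refine tensor_induction (Groth.Agent.PerfA.QCohEpi.isQCoh_of_isFinLocFree hE)
      (Groth.Agent.CohqA.IdealMod.isQCoh_idealMod I) U
      (fun s => appS (ψ p) U.1 ((lo K' p U).symm (s ⊗ₜ exteriorPower.ιMulti _ p ω)) =
        (lo K p U).symm (Psi L E I p U (s ⊗ₜ exteriorPower.ιMulti _ p ω))) ?_ ?_ ?_ s
    · simp
    · intro x y hx hy
      simp only [TensorProduct.add_tmul, map_add, hx, hy]
    · intro e a
      rw [Psi_tmul, inclTwist_tmul]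
      exact hψ p U e a ω

/-- the chain map on sections -/
noncomputable def kφ (p : ℕ) (U : X.Opens) : KS K' p U →+ KS K p U := ((φ.f p).hom.app (op U)).hom

include hφ in
theorem io_kφ (p : ℕ) (U : X.Opens) (x : KS K' p U) :
    io K p U (kφ I K K' φ p U x) = appS (ψ p) U (io K' p U x) := by
  have h1 : kφ I K K' φ p U x = (io K p U).symm (appS (ψ p) U (io K' p U x)) := by
    have h2 := congrArg (fun g => g.hom.app (op U)) (hφ p)
    exact ConcreteCategory.congr_hom h2 x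
  rw [h1, AddEquiv.apply_symm_apply]

include hE hφ hψ in
theorem la_kφ (p : ℕ) (U : X.affineOpens) (x : KS K' p U.1) :
    la K p U (kφ I K K' φ p U.1 x) = Psi L E I p U (la K' p U x) := by
  rw [la_apply, io_kφ I K K' φ ψ hφ]
  have h1 := appS_ψ hE I K K' ψ hψ p U (la K' p U x)
  rw [la_apply, LinearEquiv.symm_apply_apply] at h1
  rw [h1, LinearEquiv.apply_symm_apply, la_apply]

end maps

section main

variable {Ω' : X.Modules} {d : OmegaSh.Der f Ω'} {r : ℕ}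
  {D : Fin r → X.IdealSheafData} {Λ : LogNCD.LogMod d D} (hch : HasCharts Λ)
  {E : X.Modules} (hE : FlatMod.IsFinLocFree E) (I : X.IdealSheafData)
  {nabla : Coh.toAb E ⟶ Coh.toAb (CohB1.tensorMod E Λ.L)} (hc : ConnSh.IsConn (LogNCD.der Λ) E nabla)
  (K : ConnSh.Cx (LogNCD.der Λ) E nabla)
  {nabla' : Coh.toAb (CohB1.tensorMod E (ClSub.idealMod I)) ⟶
    Coh.toAb (CohB1.tensorMod (CohB1.tensorMod E (ClSub.idealMod I)) Λ.L)}
  (K' : ConnSh.Cx (LogNCD.der Λ) (CohB1.tensorMod E (ClSub.idealMod I)) nabla')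
  (φ : K'.K ⟶ K.K) (ψ : ∀ p : ℕ, K'.term p ⟶ K.term p)
  (hφ : ∀ p : ℕ, φ.f p = (K'.iso p).hom ≫ (SheafOfModules.toSheaf X.ringCatSheaf).map (ψ p) ≫ (K.iso p).inv)
  (hψ : ∀ (p : ℕ) (U : X.affineOpens) (e : Γ(E, U.1)) (g : (ClSub.idealMod I).val.obj (op U.1))
      (ω : Fin p → Γ(Λ.L, U.1)),
      (ψ p).app U.1 ((K'.loc p U).symm
        (SecTwist.tmul (E) (ClSub.idealMod I) U.1 e g ⊗ₜ exteriorPower.ιMulti _ p ω)) =
      (K.loc p U).symm ((OmegaSh.idealSect I U.1 g • e) ⊗ₜ exteriorPower.ιMulti _ p ω))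

/-- A chart on which `E` is free. -/
structure ECh (Λ : LogNCD.LogMod d D) (E : X.Modules) (U : X.affineOpens) where
  C : Ch Λ U
  m : ℕ
  b : Fin m → Sec E U.1
  hb : IsLocBasis b

include hch hE in
theorem exists_ECh (x : X) (O : X.Opens) (hx : x ∈ O) :
    ∃ U : X.affineOpens, x ∈ U.1 ∧ U.1 ≤ O ∧ Nonempty (ECh Λ E U) := by
  obtain ⟨V, hV, hxV, n, b, hb⟩ := Groth.Agent.Sga67.TensorOps.exists_basis_nhd hE hx
  obtain ⟨U, hxU, hU, ⟨C⟩⟩ := hch x V hxV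
  exact ⟨U, hxU, hU.trans hV, ⟨⟨C, n, _, hb.restrict hU⟩⟩⟩

include hch hE hφ hψ in
/-- The inclusion of the twisted complex is a quasi-isomorphism as soon as the quotient is acyclic on charts. -/
theorem quasiIso_of_acycMod (ν : Fin r → ℕ)
    (hI : ∀ U : X.affineOpens, I.ideal U = ∏ j, (D j).ideal U ^ ν j)
    (hac : ∀ (U : X.affineOpens) (T : ECh Λ E U), (strC T.C hc K T.hb).AcycMod (∏ j, T.C.g j ^ ν j)) :
    QuasiIso φ := by
  have hIG : ∀ (U : X.affineOpens) (C : Ch Λ U), I.ideal U = Ideal.span {∏ j, C.g j ^ ν j} := by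
    intro U C
    rw [hI, ← Ideal.prod_span_singleton]
    refine Finset.prod_congr rfl fun j _ => ?_
    rw [C.ideal_eq j, Ideal.span_singleton_pow]
  have hGm : ∀ (U : X.affineOpens) (C : Ch Λ U), (∏ j, C.g j ^ ν j) ∈ nonZeroDivisors Γ(X, U.1) := by
    intro U C
    exact prod_mem fun j _ => pow_mem (C.g_mem j) _
  have hJ : ∀ (U : X.affineOpens) (T : ECh Λ E U) (p : ℕ),
      ∃ J : PU (CohB1.tensorMod E (ClSub.idealMod I)) Λ.L p U ≃ₗ[Γ(X, U.1)] PU E Λ.L p U,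
        ∀ x, Psi Λ.L E I p U x = (∏ j, T.C.g j ^ ν j) • J x := by
    intro U T p
    exact exists_Psi_equiv hE I U _ (hIG U T.C) (fun e he => smul_eq_zero_imp T.hb _ (hGm U T.C) e he) p
  have hkey := fun p U x => la_kφ hE I K K' φ ψ hφ hψ p U x
  have hinj : ∀ (U : X.affineOpens) (T : ECh Λ E U) (p : ℕ) (x : KS K' p U.1),
      kφ I K K' φ p U.1 x = 0 → x = 0 := by
    intro U T p x hx
    have h1 := hkey p U x
    rw [hx, map_zero] at h1
    obtain ⟨J, hJ⟩ := hJ U T p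
    rw [hJ] at h1
    have h2 := PU_smul_eq_zero p T.hb T.C.isLocBasis _ (hGm U T.C) _ h1.symm
    have h3 := (LinearEquiv.map_eq_zero_iff _).1 h2
    exact (AddEquiv.map_eq_zero_iff _).1 h3
  have hsurj : ∀ (U : X.affineOpens) (T : ECh Λ E U) (p : ℕ) (z : PU E Λ.L p U),
      ∃ x : KS K' p U.1, la K p U (kφ I K K' φ p U.1 x) = (∏ j, T.C.g j ^ ν j) • z := by
    intro U T p z
    obtain ⟨J, hJ⟩ := hJ U T p
    refine ⟨(la K' p U).symm (J.symm z), ?_⟩
    rw [hkey, hJ, AddEquiv.apply_symm_apply, LinearEquiv.apply_symm_apply]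
  have himg : ∀ (U : X.affineOpens) (T : ECh Λ E U) (p : ℕ) (x : KS K' p U.1),
      ∃ w, la K p U (kφ I K K' φ p U.1 x) = (∏ j, T.C.g j ^ ν j) • w := by
    intro U T p x
    obtain ⟨J, hJ⟩ := hJ U T p
    exact ⟨J (la K' p U x), by rw [hkey, hJ]⟩
  refine K913.QisBasis.quasiIso_of_basis φ
    {V : X.Opens | ∃ U : X.affineOpens, U.1 = V ∧ Nonempty (ECh Λ E U)} ?_ ?_ ?_ ?_
  · intro O x hx
    obtain ⟨U, hxU, hU, hT⟩ := exists_ECh hch hE x O hx
    exact ⟨U.1, ⟨U, rfl, hT⟩, hxU, hU⟩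
  · rintro _ ⟨U, rfl, ⟨T⟩⟩ p x hx
    exact hinj U T p x hx
  · rintro _ ⟨U, rfl, ⟨T⟩⟩ y w hyw
    have h1 : kd K 0 1 U.1 y = kφ I K K' φ 1 U.1 w := hyw
    obtain ⟨w', hw'⟩ := himg U T 1 w
    have h2 := congrArg (la K 1 U) h1
    rw [la_kd K 0 U y, hw'] at h2
    obtain ⟨z, hz⟩ := (hac U T).1 _ _ h2
    obtain ⟨x, hx⟩ := hsurj U T 0 z
    refine ⟨x, ?_⟩
    exact (la K 0 U).injective (hz.trans hx.symm)
  · rintro _ ⟨U, rfl, ⟨T⟩⟩ p y w hyw
    have h1 : kd K (p + 1) (p + 2) U.1 y = kφ I K K' φ (p + 2) U.1 w := hyw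
    obtain ⟨w', hw'⟩ := himg U T (p + 2) w
    have h2 := congrArg (la K (p + 2) U) h1
    rw [la_kd K (p + 1) U y, hw'] at h2
    obtain ⟨c, z, hz⟩ := (hac U T).2 p _ _ h2
    obtain ⟨x, hx⟩ := hsurj U T (p + 1) z
    refine ⟨(la K p U).symm c, x, ?_⟩
    apply (la K (p + 1) U).injective
    have h3 : la K (p + 1) U (kd K p (p + 1) U.1 ((la K p U).symm c) + kφ I K K' φ (p + 1) U.1 x) =
      la K (p + 1) U y := by
      rw [map_add, hx, ← D_apply]
      exact hz.symm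
    exact h3.symm

end main

end K913.Qis
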