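import Groth.Agent.LogNCD.K913.NegTwist
import Groth.Agent.LogNCD.K922.Univ
import Mathlib.RingTheory.Smooth.StandardSmoothCotangent

/-!
# The rank of the log module is the relative dimension; the complex vanishes above
-/

set_option autoImplicit false

universe u w

open CategoryTheory CategoryTheory.Limits AlgebraicGeometry Opposite TopologicalSpace
open scoped TensorProduct
open Groth.Agent.Sga67.Sec Groth.Agent.Sga67.LocBasis

namespace K913.Rank

open K913.Contr K913.LogDG K913.CxLoc K913.CxStr K913.TermLoc K913.TauAff K913.Chart K913.ChartAcyc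
  K922.DSec K922.Quot K922.Tens K913.Qis K913.Main K913.Factor K913.NegTwist

variable {X S : Scheme.{u}} {f : X ⟶ S} {Ω' : X.Modules} {d : OmegaSh.Der f Ω'} {r : ℕ}
  {D : Fin r → X.IdealSheafData} {Λ : LogNCD.LogMod d D}

theorem bijective_ι {U : X.affineOpens} (C : Ch Λ U) {W : X.Opens} (h : W ≤ (V C).1) :
    Function.Bijective (appS Λ.ι W) := by
  refine ⟨K922.LogBasis.ι_injective Λ W, fun s => ?_⟩
  obtain ⟨a, rfl⟩ := (C.isLocBasis W (h.trans (V_le C))).2 s
  rw [comb_apply]
  have hk : ∀ k, ∃ t, appS Λ.ι W t = res Λ.L (h.trans (V_le C)) (C.ω k) := by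
    intro k
    obtain ⟨uu, ww, _, hw⟩ := ω_res C k
    have h1 : res Λ.L (h.trans (V_le C)) (C.ω k) = res Λ.L h (res Λ.L (V_le C) (C.ω k)) :=
      (res_res Λ.L (V_le C) h (C.ω k)).symm
    rw [h1, hw, res_smul, dS_res]
    exact ⟨resO X h uu • dS d W (resO X h ww), map_smul _ _ _⟩
  choose t ht using hk
  exact ⟨∑ k, a k • t k, by
    rw [map_sum]
    exact Finset.sum_congr rfl fun k _ => by rw [map_smul, ht]⟩

theorem nonempty_V {U : X.affineOpens} (C : Ch Λ U) (hU : (U.1 : Set X).Nonempty) :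
    ((V C).1 : Set X).Nonempty := by
  by_contra hcon
  rw [Set.not_nonempty_iff_eq_empty] at hcon
  obtain ⟨x, hx⟩ := hU
  haveI : Nonempty U.1 := ⟨⟨x, hx⟩⟩
  have h1 : Nontrivial Γ(X, U.1) := X.component_nontrivial U.1
  have h2 := resO_injective C
  have h3 : Subsingleton Γ(X, (V C).1) := by
    have h4 : (V C).1 = ⊥ := by
      apply Opens.ext
      exact hcon
    rw [h4]
    exact CommRingCat.subsingleton_of_isTerminal X.sheaf.isTerminalOfEmpty
  exact zero_ne_one (h2 (Subsingleton.elim _ _))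

/-- The number of elements of the basis in a nonempty chart is the relative dimension. -/
theorem n_eq (hd : K922.Coord.AffUniv d) (n : ℕ) [SmoothOfRelativeDimension n f] {U : X.affineOpens} (C : Ch Λ U)
    (hU : (U.1 : Set X).Nonempty) : C.n = n := by
  obtain ⟨y, hy⟩ := nonempty_V C hU
  obtain ⟨O, hO, V', hV', hyV, e, hs⟩ :=
    SmoothOfRelativeDimension.exists_isStandardSmoothOfRelativeDimension (n := n) (f := f) y
  obtain ⟨h, hle, hyh⟩ := hV'.exists_basicOpen_le (V := (V C).1) ⟨y, hy⟩ hyV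
  let W : X.affineOpens := ⟨X.basicOpen h, hV'.basicOpen h⟩
  have hWV : W.1 ≤ V' := X.basicOpen_le h
  have hWO : W.1 ≤ f ⁻¹ᵁ O := hWV.trans e
  have hsW : RingHom.IsStandardSmoothOfRelativeDimension n (f.appLE O W.1 hWO).hom := by
    have h1 : f.appLE O W.1 hWO = f.appLE O V' e ≫ X.presheaf.map (homOfLE hWV).op :=
      (Scheme.Hom.appLE_map _ _ _).symm
    rw [h1, CommRingCat.hom_comp]
    have := hV'.isLocalization_basicOpen h
    have h2 : RingHom.IsStandardSmoothOfRelativeDimension 0 (algebraMap Γ(X, V') Γ(X, X.basicOpen h)) :=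
      RingHom.IsStandardSmoothOfRelativeDimension.algebraMap_isLocalizationAway h
    have h3 := RingHom.IsStandardSmoothOfRelativeDimension.comp h2 hs
    rw [zero_add] at h3
    exact h3
  haveI : Nonempty W.1 := ⟨⟨y, hyh⟩⟩
  have hne : Nontrivial Γ(X, W.1) := X.component_nontrivial W.1
  algebraize [(f.appLE O W.1 hWO).hom]
  obtain ⟨ε, -⟩ := hd W ⟨O, hO⟩ hWO
  have h1 := Algebra.IsStandardSmoothOfRelativeDimension.rank_kaehlerDifferential (R := Γ(S, O)) (S := Γ(X, W.1)) n
  have hb := bijective_ι C hle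
  let η : Ω[Γ(X, W.1)⁄Γ(S, O)] ≃ₗ[Γ(X, W.1)] Sec Λ.L W.1 := ε.trans (LinearEquiv.ofBijective (appS Λ.ι W.1) hb)
  have h2 := η.rank_eq
  rw [h1, rank_eq_card_basis (C.isLocBasis.basis (hle.trans (V_le C))), Fintype.card_fin] at h2
  exact_mod_cast h2.symm

section van

variable (hch : HasCharts Λ) {E : X.Modules} (hE : FlatMod.IsFinLocFree E)
  {nabla : Coh.toAb E ⟶ Coh.toAb (CohB1.tensorMod E Λ.L)}
  (K : ConnSh.Cx (LogNCD.der Λ) E nabla)

include hch hE in
/-- The terms above the relative dimension vanish. -/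
theorem isZero_X (hd : K922.Coord.AffUniv d) (n : ℕ) [SmoothOfRelativeDimension n f] (p : ℕ) (hp : n < p) :
    IsZero (K.K.X p) := by
  rw [IsZero.iff_id_eq_zero]
  refine hom_ext_of_basis (ChB Λ E) (chB_basis hch hE) _ _ ?_
  rintro _ ⟨U, rfl, ⟨T⟩⟩ s
  have key : ∀ t : KS K p U.1, t = 0 := by
    intro t
    apply (io K p U.1).injective
    rw [map_zero]
    by_cases hU : (U.1 : Set X).Nonempty
    · have h1 := n_eq hd n T.C hU
      have h2 := isLocBasis_term K p T.hb T.C.isLocBasis
      have h3 : IsEmpty (Set.powersetCard (Fin T.C.n) p) := by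
        rw [Set.isEmpty_coe_sort, Set.powersetCard.eq_empty_iff]
        simp [h1, hp]
      obtain ⟨a, ha⟩ := (h2 U.1 le_rfl).2 (io K p U.1 t)
      rw [← ha, comb_apply]
      exact Finset.sum_eq_zero fun q _ => (h3.false q.2).elim
    · rw [Set.not_nonempty_iff_eq_empty] at hU
      have h4 : U.1 = ⊥ := by
        apply Opens.ext
        exact hU
      have h5 : (1 : Γ(X, U.1)) = 0 := by
        rw [h4]
        have := CommRingCat.subsingleton_of_isTerminal X.sheaf.isTerminalOfEmpty
        exact Subsingleton.elim _ _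
      rw [← one_smul Γ(X, U.1) (io K p U.1 t), h5, zero_smul]
  exact key _

end van

end K913.Rank
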