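import Groth.Agent.LogNCD.K913.TermLoc
import Groth.Agent.LogNCD.K913.TauAff

/-!
# The terms of a de Rham complex are `E ⊗ Ω^a`
-/

set_option autoImplicit false

universe u w

open CategoryTheory CategoryTheory.Limits AlgebraicGeometry Opposite TopologicalSpace
open scoped TensorProduct
open Groth.Agent.Sga67.Sec Groth.Agent.Sga67.LocBasis Groth.Agent.Sga67.TensorOps

namespace K913.TermIso

open K913.CxLoc K913.CxStr K913.TauAff K922.DSec K922.Tens

variable {X S : Scheme.{u}} {f : X ⟶ S} {L : X.Modules} {δ : OmegaSh.Der f L} {E : X.Modules}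
  {nabla : Coh.toAb E ⟶ Coh.toAb (CohB1.tensorMod E L)} (K : ConnSh.Cx δ E nabla)

theorem exists_termIso (hE : Coh.IsQCoh E) {a : ℕ} {La : X.Modules} (hQ : Coh.IsQCoh La)
    (φ : ∀ U : X.affineOpens, (Sec La U.1) ≃ₗ[Γ(X, U.1)] ↥(⋀[Γ(X, U.1)]^a (Sec L U.1)))
    (hφ : ∀ (U V : X.affineOpens) (h : V.1 ≤ U.1) (e : Fin a → Sec L U.1),
      res La h ((φ U).symm (exteriorPower.ιMulti _ a e)) =
        (φ V).symm (exteriorPower.ιMulti _ a (fun j => res L h (e j)))) :
    ∃ e : CohB1.tensorMod E La ≅ K.term a, ∀ (U : X.affineOpens) (m : Sec E U.1) (n : Sec La U.1),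
      appS e.hom U.1 (SecTwist.tmul E La U.1 m n) = (lo K a U).symm (m ⊗ₜ φ U n) := by
  let ψ : ∀ U : X.affineOpens, (Sec E U.1 ⊗[Γ(X, U.1)] Sec La U.1) ≃ₗ[Γ(X, U.1)] Sec (K.term a) U.1 :=
    fun U => (LinearEquiv.lTensor (Sec E U.1) (φ U)).trans (lo K a U).symm
  have hψ : ∀ (U : X.affineOpens) (m : Sec E U.1) (n : Sec La U.1),
      ψ U (m ⊗ₜ[Γ(X, U.1)] n) = (lo K a U).symm (m ⊗ₜ φ U n) := by
    intro U m n
    rw [LinearEquiv.trans_apply, LinearEquiv.lTensor_tmul]
  obtain ⟨g, hg⟩ := exists_tensor_hom (affineBasis X) E La (K.term a) (fun U => (ψ U).toLinearMap) (by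
    intro U V h m n
    change ψ V (res E h m ⊗ₜ[Γ(X, V.1)] res La h n) = res (K.term a) h (ψ U (m ⊗ₜ[Γ(X, U.1)] n))
    obtain ⟨η, rfl⟩ := (φ U).symm.surjective n
    have hη : η ∈ Submodule.span Γ(X, U.1) (Set.range (exteriorPower.ιMulti Γ(X, U.1) a (M := Sec L U.1))) := by
      rw [exteriorPower.ιMulti_span]; trivial
    induction hη using Submodule.span_induction generalizing m with
    | mem η hη =>
      obtain ⟨v, rfl⟩ := hη
      rw [hψ, hψ, hφ U V h, LinearEquiv.apply_symm_apply, LinearEquiv.apply_symm_apply]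
      exact (K.loc_res a U V h m v).symm
    | zero => simp
    | add x y _ _ hx hy =>
      rw [map_add, map_add, TensorProduct.tmul_add, TensorProduct.tmul_add, map_add, map_add, map_add, hx, hy]
    | smul b x _ hx =>
      rw [map_smul, res_smul, TensorProduct.tmul_smul, TensorProduct.tmul_smul, map_smul, map_smul, hx, res_smul])
  have hiso : IsIso g := isIso_of_bijective g (by
    intro x U hx
    obtain ⟨_, ⟨W, rfl⟩, hxW, hW⟩ := Opens.isBasis_iff_nbhd.mp (affineBasis X) hx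
    refine ⟨W.1, hW, hxW, ?_⟩
    have h1 : (appS g W.1 : _ → _) ∘ tau E La W.1 = ψ W := by
      funext s
      exact hg W s
    have h2 : Function.Bijective ((appS g W.1 : _ → _) ∘ tau E La W.1) := by
      rw [h1]
      exact (ψ W).bijective
    exact (Function.Bijective.of_comp_iff _ (tau_bijective_affine hE hQ W)).1 h2)
  refine ⟨asIso g, fun U m n => ?_⟩
  exact (hg U (m ⊗ₜ[Γ(X, U.1)] n)).trans (hψ U m n)

/-- `term a ≅ E ⊗ Ω^a` for an `a`-th exterior power `Ω^a` of the receptacle. -/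
theorem nonempty_termIso (hE : Coh.IsQCoh E) {a : ℕ} {La : X.Modules} (hQ : Coh.IsQCoh La)
    (h : ExtPow.IsExtPow a L La) : Nonempty (CohB1.tensorMod E La ≅ K.term a) := by
  obtain ⟨φ, hφ⟩ := h
  obtain ⟨e, -⟩ := exists_termIso K hE hQ φ hφ
  exact ⟨e⟩

end K913.TermIso
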