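import Groth.Agent.LogNCD.K913.PosTwist
import Groth.Agent.Ega2.TensMon

/-!
# Twisting by the inverse of an ideal
-/

set_option autoImplicit false

universe u w

open CategoryTheory CategoryTheory.Limits AlgebraicGeometry Opposite TopologicalSpace
open scoped TensorProduct
open Groth.Agent.Sga67.Sec Groth.Agent.Sga67.LocBasis

namespace K913.TwistM

open K913.Contr K913.LogDG K913.CxLoc K913.CxStr K913.TermLoc K913.TauAff K913.Chart K913.ChartAcyc
  K922.DSec K922.Quot K922.Tens K913.Qis K913.Main K913.Factor K913.Jst K913.Untwist K913.NegTwist K913.PosTwist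
open Groth.Agent.Ega2

variable {X : Scheme.{u}}

theorem inclTwist_nat {E E' : X.Modules} (φ : E ⟶ E') (I : X.IdealSheafData) :
    Tens.mapT φ (𝟙 (ClSub.idealMod I)) ≫ LogNCD.inclTwist E' I = LogNCD.inclTwist E I ≫ φ := by
  refine Tens.hom_ext _ _ fun U e a => ?_
  have h1 : (Tens.mapT φ (𝟙 (ClSub.idealMod I)) ≫ LogNCD.inclTwist E' I).app U (Tens.tmul e a) =
      (LogNCD.inclTwist E' I).app U (Tens.tmul (φ.app U e) a) := by
    change (LogNCD.inclTwist E' I).app U ((Tens.mapT φ (𝟙 (ClSub.idealMod I))).app U (Tens.tmul e a)) = _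
    rw [Tens.mapT_tmul]
    rfl
  have h2 : (LogNCD.inclTwist E' I).app U (Tens.tmul (φ.app U e) a) =
      OmegaSh.idealSect I U a • φ.app U e := inclTwist_tmul E' I U (φ.app U e) a
  have h3 : (LogNCD.inclTwist E I ≫ φ).app U (Tens.tmul e a) =
      φ.app U (OmegaSh.idealSect I U a • e) := congrArg (φ.app U) (inclTwist_tmul E I U e a)
  rw [h1, h2, h3]
  exact (Scheme.Modules.Hom.app_smul φ _ _).symm

section reg

variable {I : X.IdealSheafData}

/-- A regular generator of an ideal acts injectively on the sections of a locally free module. -/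
theorem smul_reg {N : X.Modules} (hN : FlatMod.IsFinLocFree N) (U : X.affineOpens) (G : Γ(X, U.1))
    (hG : I.ideal U = Ideal.span {G}) (hGm : G ∈ nonZeroDivisors Γ(X, U.1)) (e : Sec N U.1) (he : G • e = 0) :
    e = 0 := by
  obtain ⟨a, ha⟩ := (exists_idealSect_iff I U G).2 (by rw [hG]; exact Ideal.mem_span_singleton_self G)
  have h1 : SecTwist.tmul N (ClSub.idealMod I) U.1 e a = 0 := by
    apply inclTwist_injective I hN U.1
    rw [map_zero, inclTwist_tmul, ha, he]
  have h2 : (e ⊗ₜ[Γ(X, U.1)] a : Sec N U.1 ⊗[Γ(X, U.1)] Sec (ClSub.idealMod I) U.1) = 0 := by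
    apply (tau_bijective_affine (Groth.Agent.PerfA.QCohEpi.isQCoh_of_isFinLocFree hN)
      (Groth.Agent.CohqA.IdealMod.isQCoh_idealMod I) U).1
    rw [map_zero]
    exact h1
  have hsm : ∀ (c : Γ(X, U.1)) (s : Sec (ClSub.idealMod I) U.1),
      OmegaSh.idealSect I U.1 (c • s) = c * OmegaSh.idealSect I U.1 s := fun c s =>
    Groth.Agent.Dix.IdealModCartier.val_smul I c s
  have hinj : ∀ s t : Sec (ClSub.idealMod I) U.1, OmegaSh.idealSect I U.1 s = OmegaSh.idealSect I U.1 t → s = t :=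
    fun s t h => Groth.Agent.Dix.IdealModCartier.val_injective I h
  let ψ : Γ(X, U.1) →ₗ[Γ(X, U.1)] Sec (ClSub.idealMod I) U.1 := LinearMap.toSpanSingleton _ _ a
  have hψ : Function.Bijective ψ := by
    constructor
    · rw [injective_iff_map_eq_zero]
      intro c hc
      have h3 : OmegaSh.idealSect I U.1 (c • a) = OmegaSh.idealSect I U.1 ((0 : Γ(X, U.1)) • a) := by
        rw [zero_smul]
        exact congrArg _ hc
      rw [hsm, hsm, zero_mul, ha] at h3
      exact (mem_nonZeroDivisors_iff_right.1 hGm) _ h3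
    · intro s
      have h3 : OmegaSh.idealSect I U.1 s ∈ I.ideal U := (exists_idealSect_iff I U _).1 ⟨s, rfl⟩
      rw [hG, Ideal.mem_span_singleton'] at h3
      obtain ⟨c, hc⟩ := h3
      refine ⟨c, hinj _ _ ?_⟩
      rw [← hc, ← ha]
      exact hsm c a
  let Ψ := LinearEquiv.ofBijective ψ hψ
  have h4 : (e ⊗ₜ[Γ(X, U.1)] (1 : Γ(X, U.1)) : Sec N U.1 ⊗[Γ(X, U.1)] Γ(X, U.1)) = 0 := by
    apply (LinearEquiv.lTensor (Sec N U.1) Ψ).injective
    rw [map_zero, LinearEquiv.lTensor_tmul]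
    have : Ψ 1 = a := one_smul _ a
    rw [this, h2]
  have h5 := congrArg (TensorProduct.rid Γ(X, U.1) (Sec N U.1)) h4
  rwa [TensorProduct.rid_tmul, one_smul, map_zero] at h5

end reg

section inv

variable {M : X.Modules} {I : X.IdealSheafData} (ε : CohB1.tensorMod M (ClSub.idealMod I) ≅ Coh.structureModule X)

/-- `T ≅ (T ⊗ M) ⊗ I` -/
noncomputable def eM (T : X.Modules) : T ≅ CohB1.tensorMod (CohB1.tensorMod T M) (ClSub.idealMod I) :=
  (Tens.runit T).symm ≪≫ Tens.mapTIso (Iso.refl T) ε.symm ≪≫ (Tens.assoc T M (ClSub.idealMod I)).symm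

/-- `T → T ⊗ M` -/
noncomputable def kM (T : X.Modules) : T ⟶ CohB1.tensorMod T M :=
  (eM ε T).hom ≫ LogNCD.inclTwist (CohB1.tensorMod T M) I

variable (hM : FlatMod.IsFinLocFree M) {T : X.Modules} (hT : FlatMod.IsFinLocFree T)

include hM hT in
theorem exists_kM (U : X.affineOpens) (G : Γ(X, U.1)) (hG : I.ideal U = Ideal.span {G})
    (hGm : G ∈ nonZeroDivisors Γ(X, U.1)) :
    ∃ J : Sec T U.1 ≃ₗ[Γ(X, U.1)] Sec (CohB1.tensorMod T M) U.1, ∀ s, appS (kM ε T) U.1 s = G • J s := by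
  have hTM := Groth.Agent.Sga67.LocBasis.isFinLocFree_tensorMod hT hM
  obtain ⟨j, hj⟩ := exists_j I U G hG (smul_reg (I := I) hTM U G hG hGm) hTM
  refine ⟨(LinearEquiv.ofBijective (appS (eM ε T).hom U.1) (bijective_appS _ _)).trans j, fun s => ?_⟩
  rw [kM, appS_comp, hj]
  rfl

include hM hT in
theorem bijective_kM {r : ℕ} {D : Fin r → X.IdealSheafData} {ν : Fin r → ℕ}
    (hI : ∀ U : X.affineOpens, I.ideal U = ∏ j, (D j).ideal U ^ ν j) (V : X.Opens) (hV : V ≤ Wc D) :
    Function.Bijective (appS (kM ε T) V) := by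
  have hTM := Groth.Agent.Sga67.LocBasis.isFinLocFree_tensorMod hT hM
  have h1 : Function.Bijective (appS (LogNCD.inclTwist (CohB1.tensorMod T M) I) V) := by
    refine ⟨inclTwist_injective I hTM V, fun e => ?_⟩
    apply exact_toQuot I hTM V e
    apply eq_of_locally
    intro x hx
    obtain ⟨_, ⟨U, rfl⟩, hxU, hU⟩ := Opens.isBasis_iff_nbhd.mp (affineBasis X) hx
    refine ⟨U.1, hU, hxU, ?_⟩
    rw [map_zero, ← appS_res]
    have h2 : (1 : Γ(X, U.1)) ∈ I.ideal U := by
      have : I.ideal U = ⊤ := by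
        rw [hI]
        have : ∀ j, (D j).ideal U = ⊤ := fun j =>
          K922.Chart.ideal_eq_top_of_disjoint (D j) U fun y hy => hV (hU hy) j
        simp only [this, ← Ideal.one_eq_top, one_pow, Finset.prod_const_one]
      rw [this]
      trivial
    have h3 := toQuot_smul_eq_zero (E := CohB1.tensorMod T M) I U 1 h2 (res _ hU e)
    rwa [one_smul] at h3
  have h2 : appS (kM ε T) V = appS (LogNCD.inclTwist (CohB1.tensorMod T M) I) V ∘ₗ appS (eM ε T).hom V := by
    ext s
    rw [kM, appS_comp]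
    rfl
  rw [h2]
  exact h1.comp (bijective_appS _ _)

end inv

section main

variable {S : Scheme.{u}} {f : X ⟶ S} {Ω' : X.Modules} {d : OmegaSh.Der f Ω'} {r : ℕ}
  {D : Fin r → X.IdealSheafData} {Λ : LogNCD.LogMod d D} (hch : HasCharts Λ)
  {E : X.Modules} (hE : FlatMod.IsFinLocFree E)
  {nabla : Coh.toAb E ⟶ Coh.toAb (CohB1.tensorMod E Λ.L)} (hc : ConnSh.IsConn (LogNCD.der Λ) E nabla)
  (K : ConnSh.Cx (LogNCD.der Λ) E nabla)

include hch hE hc in
/-- **Positive twists.** -/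
theorem exists_posCxM (hL : Coh.IsQCoh Λ.L) (ν : Fin r → ℕ) (I : X.IdealSheafData)
    (hI : ∀ U : X.affineOpens, I.ideal U = ∏ j, (D j).ideal U ^ ν j)
    {M : X.Modules} (hM : FlatMod.IsFinLocFree M) (ε : CohB1.tensorMod M (ClSub.idealMod I) ≅ Coh.structureModule X)
    (hres : ∀ (j : Fin r) (c : ℕ), c < ν j → ResIso Λ E nabla j ((c : ℤ) - ν j)) :
    ∃ (P : CochainComplex (Sheaf (Opens.grothendieckTopology X) AddCommGrpCat.{u}) ℕ) (φ : K.K ⟶ P)
      (e : ∀ p, P.X p ≅ Coh.toAb (CohB1.tensorMod (K.term p) M)), QuasiIso φ ∧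
        ∀ p, φ.f p = (K.iso p).hom ≫ (SheafOfModules.toSheaf X.ringCatSheaf).map (kM ε (K.term p)) ≫ (e p).inv := by
  refine exists_posCx hch hE hc K (fun p => CohB1.tensorMod (K.term p) M) (fun p => kM ε (K.term p)) ν ?_ ?_ ?_
  · intro p U T
    have hG : I.ideal U = Ideal.span {∏ j, T.C.g j ^ ν j} := by
      rw [hI, ← Ideal.prod_span_singleton]
      refine Finset.prod_congr rfl fun j _ => ?_
      rw [T.C.ideal_eq j, Ideal.span_singleton_pow]
    exact exists_kM ε hM (isFinLocFree_term hch hE K p) U _ hG (prod_mem fun j _ => pow_mem (T.C.g_mem j) _)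
  · intro p V hV
    exact bijective_kM ε hM (isFinLocFree_term hch hE K p) hI V hV
  · intro U T
    exact acycMod_strU T.C hE hc K T.hb hL ν hres

include hch hE hc in
/-- **Negative twists.** -/
theorem exists_negCxR (hL : Coh.IsQCoh Λ.L) (ν : Fin r → ℕ) (I : X.IdealSheafData)
    (hI : ∀ U : X.affineOpens, I.ideal U = ∏ j, (D j).ideal U ^ ν j)
    (hres : ∀ (j : Fin r) (c : ℕ), c < ν j → ResIso Λ E nabla j c) :
    ∃ (P : CochainComplex (Sheaf (Opens.grothendieckTopology X) AddCommGrpCat.{u}) ℕ) (φ : P ⟶ K.K)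
      (e : ∀ p, P.X p ≅ Coh.toAb (CohB1.tensorMod (K.term p) (ClSub.idealMod I))),
      QuasiIso φ ∧ ∀ p, φ.f p = (e p).hom ≫
        (SheafOfModules.toSheaf X.ringCatSheaf).map (LogNCD.inclTwist (K.term p) I) ≫ (K.iso p).inv :=
  exists_negCx hch hE hc K ν I hI fun _ T => acycMod_chart' T.C hE hc K T.hb hL ν hres

end main

end K913.TwistM
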